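import Mathlib
import Cfsg.Agent.Lib.Char.SelfCentGroup

/-!
# A self-centralizing element of order three: elementary facts
-/

set_option autoImplicit false
set_option linter.unusedSectionVars false
set_option linter.style.haveILetI false

namespace Cfsg.Agent.Lib.FTThree

open Subgroup
open Cfsg.Agent.Lib.Char

variable {G : Type*} [Group G] [Finite G] {x s : G}

theorem cube_eq_one (hx : orderOf x = 3) : x ^ 3 = 1 := hx ▸ pow_orderOf_eq_one x

theorem inv_eq_sq (hx : orderOf x = 3) : x⁻¹ = x * x :=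
  inv_eq_of_mul_eq_one_right (by rw [← mul_assoc, ← pow_three', cube_eq_one hx])

theorem mem_zpowers_iff_three (hx : orderOf x = 3) {y : G} :
    y ∈ zpowers x ↔ y = 1 ∨ y = x ∨ y = x⁻¹ := by
  classical
  refine ⟨fun hy => ?_, ?_⟩
  · rw [← mem_powers_iff_mem_zpowers, mem_powers_iff_mem_range_orderOf] at hy
    rw [hx] at hy
    simp only [Finset.mem_image, Finset.mem_range] at hy
    obtain ⟨k, hk, rfl⟩ := hy
    interval_cases k
    · exact Or.inl (pow_zero x)
    · exact Or.inr (Or.inl (pow_one x))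
    · exact Or.inr (Or.inr (by rw [inv_eq_sq hx, pow_two]))
  · rintro (rfl | rfl | rfl)
    · exact one_mem _
    · exact mem_zpowers _
    · exact inv_mem (mem_zpowers _)

/-- Two elements inverting `x` differ by a power of `x`. -/
theorem eq_mul_of_inverts (hC : centralizer ({x} : Set G) = zpowers x) (hs : s * x * s⁻¹ = x⁻¹)
    {y : G} (hy : y * x * y⁻¹ = x⁻¹) : s⁻¹ * y ∈ zpowers x := by
  rw [← hC, mem_centralizer_singleton_iff]
  calc s⁻¹ * y * x = s⁻¹ * (y * x * y⁻¹) * y := by group
    _ = s⁻¹ * (s * x * s⁻¹) * y := by rw [hy, hs]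
    _ = x * (s⁻¹ * y) := by group

theorem inverts_mul (hs : s * x * s⁻¹ = x⁻¹) {u : G} (hu : u ∈ zpowers x) :
    s * u * x * (s * u)⁻¹ = x⁻¹ := by
  obtain ⟨k, rfl⟩ := mem_zpowers_iff.1 hu
  rw [← hs]
  group

/-- `s u` is conjugate to `s`. -/
theorem isConj_mul (hx : orderOf x = 3) (hs : s * x * s⁻¹ = x⁻¹) {u : G} (hu : u ∈ zpowers x) :
    IsConj (s * u) s := by
  have hsq := inv_eq_sq hx
  have h1 : x * s * x⁻¹ = s * x := by
    have : x * s = s * x⁻¹ := by
      have h' := congrArg (fun t => t⁻¹) hs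
      simp only [mul_inv_rev, inv_inv] at h'
      calc x * s = s * (x⁻¹ * s⁻¹) * s := by rw [h']
        _ = s * x⁻¹ := by group
    rw [this, mul_assoc, ← mul_inv_rev, ← hsq, inv_inv]
  have h2 : x⁻¹ * s * x = s * x⁻¹ := by
    have := congrArg (fun t => x⁻¹ * t * x * x⁻¹) h1
    calc x⁻¹ * s * x = x⁻¹ * (s * x) := by group
      _ = x⁻¹ * (x * s * x⁻¹) := by rw [h1]
      _ = s * x⁻¹ := by group
  rcases (mem_zpowers_iff_three hx).1 hu with e | e | e <;> rw [e]
  · rw [mul_one]
  · exact (isConj_iff.2 ⟨x, h1⟩).symm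
  · exact (isConj_iff.2 ⟨x⁻¹, by rw [inv_inv]; exact h2⟩).symm

theorem orderOf_inv_mul (hx : orderOf x = 3) (hs : s * x * s⁻¹ = x⁻¹) (hs2 : orderOf s = 2)
    {u : G} (hu : u ∈ zpowers x) : orderOf (s * u) = 2 := by
  obtain ⟨g, hg⟩ := isConj_iff.1 (isConj_mul hx hs hu)
  have h := orderOf_injective (MulAut.conj g).toMonoidHom (MulAut.conj g).injective (s * u)
  simp only [MulEquiv.coe_toMonoidHom, MulAut.conj_apply, hg] at h
  rw [← h, hs2]

/-- The normalizer of `⟨x⟩`. -/
theorem mem_normalizer_iff_three (hx : orderOf x = 3) (hC : centralizer ({x} : Set G) = zpowers x)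
    (hs : s * x * s⁻¹ = x⁻¹) {y : G} :
    y ∈ normalizer (zpowers x : Set G) ↔ y ∈ zpowers x ∨ s⁻¹ * y ∈ zpowers x := by
  constructor
  · intro hy
    have h := (mem_normalizer_iff.1 hy x).1 (mem_zpowers x)
    rcases (mem_zpowers_iff_three hx).1 h with h | h | h
    · exfalso
      rw [conj_eq_one_iff] at h
      rw [h, orderOf_one] at hx
      omega
    · refine Or.inl (hC ▸ mem_centralizer_singleton_iff.2 (mul_inv_eq_iff_eq_mul.1 h))
    · exact Or.inr (eq_mul_of_inverts hC hs h)
  · intro hy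
    have hsn : s ∈ normalizer (zpowers x : Set G) := by
      have hle : (zpowers x).map (MulAut.conj s).toMonoidHom = zpowers x := by
        rw [MonoidHom.map_zpowers]
        simp only [MulEquiv.coe_toMonoidHom, MulAut.conj_apply, hs, zpowers_inv]
      rw [mem_normalizer_iff]
      intro z
      constructor
      · intro hz; rw [← hle]; exact ⟨z, hz, rfl⟩
      · intro hz
        rw [← hle] at hz
        obtain ⟨w, hw, hwz⟩ := hz
        exact (MulAut.conj s).injective hwz ▸ hw
    rcases hy with h | h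
    · exact le_normalizer h
    · rw [show y = s * (s⁻¹ * y) by group]
      exact mul_mem hsn (le_normalizer h)

theorem s_not_mem (hx : orderOf x = 3) (hs2 : orderOf s = 2) : s ∉ zpowers x := by
  intro h
  have hd : orderOf s ∣ Nat.card (zpowers x) := orderOf_dvd_natCard (zpowers x) h
  rw [hs2, Nat.card_zpowers, hx] at hd
  omega

theorem card_normalizer_six (hx : orderOf x = 3) (hC : centralizer ({x} : Set G) = zpowers x)
    (hs : s * x * s⁻¹ = x⁻¹) (hs2 : orderOf s = 2) :
    Nat.card (normalizer (zpowers x : Set G)) = 6 := by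
  classical
  have e : (normalizer (zpowers x : Set G) : Set G) = (zpowers x : Set G) ∪ (fun u => s * u) '' (zpowers x) := by
    ext y
    rw [SetLike.mem_coe, mem_normalizer_iff_three hx hC hs, Set.mem_union, Set.mem_image]
    refine or_congr Iff.rfl ⟨fun h => ⟨_, h, by group⟩, ?_⟩
    rintro ⟨u, hu, rfl⟩
    simpa using hu
  have hdis : Disjoint (zpowers x : Set G) ((fun u => s * u) '' (zpowers x)) := by
    rw [Set.disjoint_left]
    rintro y hy ⟨u, hu, rfl⟩
    exact s_not_mem hx hs2 (by simpa using (zpowers x).mul_mem hy ((zpowers x).inv_mem hu))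
  rw [← SetLike.coe_sort_coe, Nat.card_coe_set_eq, e, Set.ncard_union_eq hdis (Set.toFinite _) (Set.toFinite _),
    Set.ncard_image_of_injective _ (mul_right_injective s), ← Nat.card_coe_set_eq, SetLike.coe_sort_coe,
    Nat.card_zpowers, hx]

/-- All elements of order three are conjugate. -/
theorem isConj_of_orderOf_three (hx : orderOf x = 3) (hC : centralizer ({x} : Set G) = zpowers x)
    (hs : s * x * s⁻¹ = x⁻¹) {y : G} (hy : orderOf y = 3) : IsConj y x := by
  haveI : Fact (Nat.Prime 3) := ⟨by norm_num⟩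
  obtain ⟨P, hP⟩ := SC.exists_sylow hx hC
  obtain ⟨Q, hQ⟩ := (IsPGroup.of_card (n := 1) (G := zpowers y)
    (by rw [Nat.card_zpowers, hy, pow_one])).exists_le_sylow
  obtain ⟨c, hc⟩ := MulAction.exists_smul_eq G Q P
  have h1 : c * y * c⁻¹ ∈ zpowers x := by
    rw [← hP, ← hc, Transfer.mem_smul_sylow]
    simpa [mul_assoc] using hQ (mem_zpowers y)
  have ho : orderOf (c * y * c⁻¹) = 3 := by
    rw [← hy]; exact orderOf_injective (MulAut.conj c).toMonoidHom (MulAut.conj c).injective _
  rcases (mem_zpowers_iff_three hx).1 h1 with h | h | h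
  · rw [h, orderOf_one] at ho; omega
  · exact isConj_iff.2 ⟨c, h⟩
  · exact isConj_iff.2 ⟨s * c, by
      calc s * c * y * (s * c)⁻¹ = s * (c * y * c⁻¹) * s⁻¹ := by group
        _ = (s * x * s⁻¹)⁻¹ := by rw [h]; group
        _ = x := by rw [hs, inv_inv]⟩

theorem nine_not_dvd (hx : orderOf x = 3) (hC : centralizer ({x} : Set G) = zpowers x) :
    ¬ 9 ∣ Nat.card G := by
  haveI : Fact (Nat.Prime 3) := ⟨by norm_num⟩
  obtain ⟨P, hP⟩ := SC.exists_sylow hx hC
  intro h
  have hle := P.pow_dvd_card_of_pow_dvd_card (n := 2) (by norm_num; exact h)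
  have : Nat.card (P : Subgroup G) = 3 := by rw [hP, Nat.card_zpowers, hx]
  rw [this] at hle
  norm_num at hle

/-- An involution whose product with `x` is an involution lies in `s⟨x⟩`. -/
theorem mem_coset_of_inv (hC : centralizer ({x} : Set G) = zpowers x) (hs : s * x * s⁻¹ = x⁻¹)
    {i : G} (hi : orderOf i = 2) (hix : orderOf (i * x) = 2) : s⁻¹ * i ∈ zpowers x := by
  refine eq_mul_of_inverts hC hs ?_
  have h1 : i * i = 1 := by rw [← pow_two, ← hi, pow_orderOf_eq_one]
  have h2 : i * x * (i * x) = 1 := by rw [← pow_two, ← hix, pow_orderOf_eq_one]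
  rw [inv_eq_of_mul_eq_one_right h1]
  refine eq_inv_of_mul_eq_one_left ?_
  calc i * x * i * x = i * x * (i * x) := by group
    _ = 1 := h2

end Cfsg.Agent.Lib.FTThree
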