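import Cfsg.Agent.Lib.FTThree.Basic
import Cfsg.Agent.Lib.CharTools.ClassMult
import Cfsg.Agent.Lib.Char.Order7920Tools
import Cfsg.Agent.Lib.Char.Linear
import Cfsg.Agent.Lib.SmallSimple.Basic

/-!
# Characters of a simple group with a self-centralizing subgroup of order three
-/

set_option autoImplicit false
set_option linter.unusedSectionVars false
set_option linter.style.haveILetI false

namespace Cfsg.Agent.Lib.FTThree

open Cfsg Cfsg.Agent.Lib.Char Cfsg.Agent.Lib.CharTools Cfsg.Agent.Lib.Char.O7920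
open Subgroup
open scoped ComplexConjugate

universe u

variable {G : Type u} [Group G]

/-- The involutions whose product with `x` has order three. -/
def invSet (x : G) : Set G := {i | orderOf i = 2 ∧ orderOf (i * x) = 3}

/-- The first factors of `x` as a product of two elements of order three. -/
def facSet (x : G) : Set G := {a | orderOf a = 3 ∧ orderOf (a⁻¹ * x) = 3}

/-- What the three characters not vanishing at `x` give. -/
structure Facts (x s : G) (d : ℕ) (a : ℤ) : Prop where
  four_le : 4 ≤ d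
  mod_three : d % 3 = 1
  upper : 3 * a ≤ d - 4
  lower : -(d : ℤ) - 2 ≤ 3 * a
  norm : 1 + a ^ 2 + (1 + a) ^ 2 ≤ Nat.card (centralizer ({s} : Set G))
  order : (Nat.card G : ℤ) * (d - a) ^ 2 =
    3 * (Nat.card (centralizer ({s} : Set G)) : ℤ) ^ 2 * (d * (d + 1))
  dvd : d ∣ Nat.card G
  dvd' : d + 1 ∣ Nat.card G
  squares : 1 + d ^ 2 + (d + 1) ^ 2 ≤ Nat.card G
  involutions_conj : ∀ t : G, orderOf t = 2 → IsConj t s
  inv_count : (Nat.card (invSet x) : ℤ) * (d - a) ^ 2 =
    Nat.card (centralizer ({s} : Set G)) * (d ^ 2 + 2 * d + a * (2 * d + 1))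
  fac_count : 3 * (Nat.card (facSet x) : ℤ) * (d - a) ^ 2 =
    (Nat.card (centralizer ({s} : Set G)) : ℤ) ^ 2 * (d ^ 2 + d + 1)

variable [Finite G]

/-- The class multiplication formula. -/
theorem card_factor [Fintype G] (a b c : G) :
    (Nat.card G : ℂ) * (Nat.card {i : G // IsConj i a ∧ IsConj (i⁻¹ * c) b} : ℂ) =
      ((centralizer ({a} : Set G)).index : ℂ) * ((centralizer ({b} : Set G)).index : ℂ) *
        ∑ χ : IrrCharacter G, (χ : G → ℂ) a * (χ : G → ℂ) b / (χ : G → ℂ) 1 * conj ((χ : G → ℂ) c) := by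
  classical
  have h2 : ∀ z : G, ∑ g : G, (if g * z * g⁻¹ = c then (1 : ℂ) else 0) =
      ∑ χ : IrrCharacter G, (χ : G → ℂ) z * conj ((χ : G → ℂ) c) := fun z => by
    rw [Finset.sum_boole]
    exact (card_conj_eq z c).trans (by convert (sum_irr_mul_conj' z c).symm)
  have h0 : ∀ g : G, ∑ x : G, ∑ y : G, classInd a x * classInd b y * (if g * (x * y) * g⁻¹ = c then 1 else 0) =
      (Nat.card {i : G // IsConj i a ∧ IsConj (i⁻¹ * c) b} : ℂ) := by
    intro g
    calc ∑ x : G, ∑ y : G, classInd a x * classInd b y * (if g * (x * y) * g⁻¹ = c then 1 else 0)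
        = ∑ x : G, ∑ y : G, classInd a x * classInd b y * (if x * y = c then 1 else 0) := by
          refine Fintype.sum_equiv (MulAut.conj g).toEquiv _ _ fun x => ?_
          refine Fintype.sum_equiv (MulAut.conj g).toEquiv _ _ fun y => ?_
          show _ = classInd a (g * x * g⁻¹) * classInd b (g * y * g⁻¹) *
            (if g * x * g⁻¹ * (g * y * g⁻¹) = c then 1 else 0)
          rw [classInd_conj, classInd_conj, show g * x * g⁻¹ * (g * y * g⁻¹) = g * (x * y) * g⁻¹ by group]
      _ = ∑ x : G, classInd a x * classInd b (x⁻¹ * c) := by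
          refine Finset.sum_congr rfl fun x _ => ?_
          rw [Finset.sum_eq_single (x⁻¹ * c)]
          · rw [if_pos (by group), mul_one]
          · intro y _ hy
            rw [if_neg fun h => hy (by rw [← h]; group), mul_zero]
          · simp
      _ = ((Finset.univ.filter fun x : G => IsConj x a ∧ IsConj (x⁻¹ * c) b).card : ℂ) := by
          rw [Finset.card_filter, Nat.cast_sum]
          refine Finset.sum_congr rfl fun x _ => ?_
          by_cases p1 : IsConj x a
          · by_cases p2 : IsConj (x⁻¹ * c) b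
            · rw [classInd_of p1, classInd_of p2, if_pos ⟨p1, p2⟩]; simp
            · rw [classInd_of_not p2, if_neg fun h => p2 h.2]; simp
          · rw [classInd_of_not p1, if_neg fun h => p1 h.1]; simp
      _ = _ := by rw [Nat.card_eq_fintype_card, Fintype.card_subtype]
  calc (Nat.card G : ℂ) * (Nat.card {i : G // IsConj i a ∧ IsConj (i⁻¹ * c) b} : ℂ)
      = ∑ g : G, ∑ x : G, ∑ y : G, classInd a x * classInd b y *
          (if g * (x * y) * g⁻¹ = c then 1 else 0) := by
        rw [Finset.sum_congr rfl fun g _ => h0 g, Finset.sum_const, Finset.card_univ, nsmul_eq_mul,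
          Nat.card_eq_fintype_card]
    _ = ∑ x : G, ∑ y : G, classInd a x * classInd b y *
          ∑ χ : IrrCharacter G, (χ : G → ℂ) (x * y) * conj ((χ : G → ℂ) c) := by
        rw [Finset.sum_comm]
        refine Finset.sum_congr rfl fun x _ => ?_
        rw [Finset.sum_comm]
        refine Finset.sum_congr rfl fun y _ => ?_
        rw [← Finset.mul_sum, h2]
    _ = ∑ χ : IrrCharacter G, (∑ x : G, ∑ y : G, classInd a x * classInd b y * (χ : G → ℂ) (x * y)) *
          conj ((χ : G → ℂ) c) := by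
        simp only [Finset.mul_sum, Finset.sum_mul, mul_assoc]
        rw [Finset.sum_congr rfl fun x _ => Finset.sum_comm, Finset.sum_comm]
    _ = _ := by
        rw [Finset.mul_sum]
        refine Finset.sum_congr rfl fun χ _ => ?_
        rw [sum_classes_mul χ.2]
        ring

variable {x s : G}

open scoped Classical in
/-- Sum over the normalizer of `⟨x⟩`. -/
theorem sum_normalizer [Fintype G] (hx : orderOf x = 3) (hC : centralizer ({x} : Set G) = zpowers x)
    (hs : s * x * s⁻¹ = x⁻¹) (hs2 : orderOf s = 2) (f : G → ℂ) :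
    ∑ y ∈ Finset.univ.filter (fun y => y ∈ normalizer (zpowers x : Set G)), f y =
      (f 1 + f x + f x⁻¹) + (f s + f (s * x) + f (s * x⁻¹)) := by
  have hne : x ≠ 1 := fun h => by rw [h, orderOf_one] at hx; omega
  have hne2 : x⁻¹ ≠ x := fun h => hne (by
    have h' := inv_eq_sq hx
    rw [h] at h'
    exact (left_eq_mul.1 h'))
  have hsm : ∀ u ∈ zpowers x, s ≠ u := fun u hu h => s_not_mem hx hs2 (h ▸ hu)
  have e : Finset.univ.filter (fun y => y ∈ normalizer (zpowers x : Set G)) =
      ({1, x, x⁻¹} : Finset G) ∪ ({1, x, x⁻¹} : Finset G).image (s * ·) := by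
    ext y
    simp only [Finset.mem_filter, Finset.mem_univ, true_and, Finset.mem_union, Finset.mem_image]
    rw [mem_normalizer_iff_three hx hC hs, mem_zpowers_iff_three hx, mem_zpowers_iff_three hx]
    refine or_congr (by simp) ⟨fun h => ⟨s⁻¹ * y, by simpa using h, by group⟩, ?_⟩
    rintro ⟨u, hu, rfl⟩
    simpa using hu
  have hdis : Disjoint ({1, x, x⁻¹} : Finset G) (({1, x, x⁻¹} : Finset G).image (s * ·)) := by
    rw [Finset.disjoint_left]
    intro y hy hy'
    obtain ⟨u, hu, rfl⟩ := Finset.mem_image.1 hy'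
    have h1 : s * u ∈ zpowers x := (mem_zpowers_iff_three hx).2 (by simpa using hy)
    have h2 : u ∈ zpowers x := (mem_zpowers_iff_three hx).2 (by simpa using hu)
    exact s_not_mem hx hs2 (by simpa using (zpowers x).mul_mem h1 ((zpowers x).inv_mem h2))
  rw [e, Finset.sum_union hdis, Finset.sum_image fun a _ b _ h => mul_left_cancel h]
  rw [Finset.sum_insert (by simp [hne.symm, inv_ne_one.2 hne |>.symm]), Finset.sum_pair hne2.symm,
    Finset.sum_insert (by simp [hne.symm, inv_ne_one.2 hne |>.symm]), Finset.sum_pair hne2.symm, mul_one]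
  ring

/-- The characters, their values and the orders they force. -/
theorem exists_facts [IsSimpleGroup G] (hnc : ¬ IsMulCommutative G) (hx : orderOf x = 3)
    (hC : centralizer ({x} : Set G) = zpowers x) (hs : s * x * s⁻¹ = x⁻¹) (hs2 : orderOf s = 2) :
    ∃ (d : ℕ) (a : ℤ), Facts x s d a := by
  classical
  haveI := Fintype.ofFinite G
  have hperf : commutator G = ⊤ := SmallSimple.commutator_eq_top hnc
  have hGpos : (0 : ℕ) < Nat.card G := Nat.card_pos
  set X := zpowers x
  have hXc : Nat.card X = 3 := by rw [Nat.card_zpowers, hx]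
  have hconj : IsConj x x⁻¹ := isConj_iff.2 ⟨s, hs⟩
  have hval : ∀ {f : G → ℂ}, IsClassFunction G f → ∀ {g h : G}, IsConj g h → f g = f h := by
    intro f hf g h hgh
    obtain ⟨c, hc⟩ := isConj_iff.1 hgh
    rw [← hc, hf g c]
  have hinvx : ∀ ψ : IrrCharacter G, (ψ : G → ℂ) x⁻¹ = (ψ : G → ℂ) x := fun ψ =>
    (hval (isClassFunction_of_isIrr ψ.2) hconj).symm
  have hsum3 : ∀ ψ : IrrCharacter G, ∃ m : ℕ,
      (charDegree (ψ : G → ℂ) : ℂ) + 2 * (ψ : G → ℂ) x = 3 * (m : ℂ) := by
    intro ψ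
    obtain ⟨m, hm⟩ := exists_nat_sum_subgroup (isCharacter_of_isIrr ψ.2) X
    refine ⟨m, ?_⟩
    have e : Finset.univ.filter (· ∈ X) = ({1, x, x⁻¹} : Finset G) := by
      ext y; simp [X, mem_zpowers_iff_three hx]
    rw [hXc, e] at hm
    have hne : x ≠ 1 := fun h => by rw [h, orderOf_one] at hx; omega
    have hne2 : x ≠ x⁻¹ := fun h => hne (by
      have h' := inv_eq_sq hx
      rw [← h] at h'
      exact (left_eq_mul.1 h'))
    rw [Finset.sum_insert (by simp [hne.symm, inv_ne_one.2 hne |>.symm]), Finset.sum_pair hne2,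
      hinvx, apply_one_eq_charDegree (isCharacter_of_isIrr ψ.2)] at hm
    push_cast at hm
    linear_combination hm
  have hint : ∀ ψ : IrrCharacter G, ∃ r : ℤ, (ψ : G → ℂ) x = r := by
    intro ψ
    obtain ⟨m, hm⟩ := hsum3 ψ
    refine exists_int_of_mul (char_isIntegral (isCharacter_of_isIrr ψ.2) x)
      (a := 3 * (m : ℤ) - (charDegree (ψ : G → ℂ) : ℤ)) (b := 2) two_ne_zero ?_
    push_cast
    linear_combination hm
  choose v hv using hint
  let pr : IrrCharacter G := ⟨_, isIrrCharacter_one⟩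
  have hprv : ∀ g : G, (pr : G → ℂ) g = 1 := fun g => rfl
  have hv1 : v pr = 1 := by have := hv pr; rw [hprv] at this; exact_mod_cast this.symm
  have hsq : ∑ ψ : IrrCharacter G, v ψ * v ψ = 3 := by
    have h := sum_norm (G := G) x
    rw [hC, hXc] at h
    simp only [hv, map_intCast] at h
    exact_mod_cast h
  set S := Finset.univ.filter fun ψ => v ψ ≠ 0 with hS
  have hsqS : ∑ ψ ∈ S, v ψ * v ψ = 3 := by
    rw [← hsq, hS]
    refine Finset.sum_filter_of_ne fun ψ _ h h' => h (by rw [h', mul_zero])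
  have hone : ∀ ψ ∈ S, v ψ * v ψ = 1 := by
    intro ψ hψ
    have hle : v ψ * v ψ ≤ 3 := hsqS ▸ Finset.single_le_sum (fun i _ => mul_self_nonneg (v i)) hψ
    have h0 : v ψ ≠ 0 := (Finset.mem_filter.1 hψ).2
    have h1 : v ψ ≤ 1 := by nlinarith
    have h2 : -1 ≤ v ψ := by nlinarith
    interval_cases h : v ψ <;> simp at h0 ⊢
  have hcard : S.card = 3 := by
    rw [Finset.sum_congr rfl hone, Finset.sum_const, nsmul_eq_mul, mul_one] at hsqS
    exact_mod_cast hsqS
  have hprS : pr ∈ S := Finset.mem_filter.2 ⟨Finset.mem_univ _, by rw [hv1]; norm_num⟩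
  obtain ⟨p, q, hpq, hpqe⟩ := Finset.card_eq_two.1 (show (S.erase pr).card = 2 by
    rw [Finset.card_erase_of_mem hprS, hcard])
  have hp : p ∈ S.erase pr := hpqe ▸ Finset.mem_insert_self _ _
  have hq : q ∈ S.erase pr := hpqe ▸ Finset.mem_insert_of_mem (Finset.mem_singleton_self _)
  -- expansion of a column sum against `x`
  have expand : ∀ f : IrrCharacter G → ℂ,
      ∑ ψ, f ψ * conj ((ψ : G → ℂ) x) = f pr + f p * v p + f q * v q := by
    intro f
    rw [← Finset.sum_subset (Finset.subset_univ S) fun ψ _ hψ => by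
      have : v ψ = 0 := by simpa [hS] using hψ
      rw [hv, this]; simp, ← Finset.add_sum_erase _ _ hprS, hpqe, Finset.sum_pair hpq, hprv, map_one,
      mul_one, hv p, hv q, map_intCast, map_intCast]
    ring
  have hdeg : ∀ ψ : IrrCharacter G, (ψ : G → ℂ) 1 = (charDegree (ψ : G → ℂ) : ℂ) := fun ψ =>
    apply_one_eq_charDegree (isCharacter_of_isIrr ψ.2)
  have hrel : (1 : ℤ) + charDegree (p : G → ℂ) * v p + charDegree (q : G → ℂ) * v q = 0 := by
    have h := sum_orth (G := G) (g := 1) (h := x) (fun h => by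
      rw [isConj_one_right] at h
      rw [h, orderOf_one] at hx; omega)
    rw [expand fun ψ => (ψ : G → ℂ) 1, hdeg p, hdeg q, hprv] at h
    exact_mod_cast h
  obtain ⟨χ, θ, hχθ, hne1, hne2, hvχ, hvθ, expand⟩ : ∃ χ θ : IrrCharacter G, χ ≠ θ ∧ χ ≠ pr ∧ θ ≠ pr ∧
      v χ = 1 ∧ v θ = -1 ∧ ∀ f : IrrCharacter G → ℂ, ∑ ψ, f ψ * conj ((ψ : G → ℂ) x) = f pr + f χ - f θ := by
    have hp' := Int.eq_one_or_neg_one_of_mul_eq_one (hone p (Finset.mem_of_mem_erase hp))
    have hq' := Int.eq_one_or_neg_one_of_mul_eq_one (hone q (Finset.mem_of_mem_erase hq))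
    have h1 := charDegree_pos p.2
    have h2 := charDegree_pos q.2
    rcases hp' with a1 | a1 <;> rcases hq' with a2 | a2
    · rw [a1, a2] at hrel; omega
    · exact ⟨p, q, hpq, Finset.ne_of_mem_erase hp, Finset.ne_of_mem_erase hq, a1, a2, fun f => by
        rw [expand, a1, a2]; push_cast; ring⟩
    · exact ⟨q, p, hpq.symm, Finset.ne_of_mem_erase hq, Finset.ne_of_mem_erase hp, a2, a1, fun f => by
        rw [expand, a1, a2]; push_cast; ring⟩
    · rw [a1, a2] at hrel; omega
  have hχx : (χ : G → ℂ) x = 1 := by rw [hv, hvχ, Int.cast_one]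
  have hθx : (θ : G → ℂ) x = -1 := by rw [hv, hvθ]; simp
  set d := charDegree (χ : G → ℂ) with hd
  have hθd : charDegree (θ : G → ℂ) = d + 1 := by
    have h := sum_orth (G := G) (g := 1) (h := x) (fun h => by
      rw [isConj_one_right] at h
      rw [h, orderOf_one] at hx; omega)
    rw [expand fun ψ => (ψ : G → ℂ) 1, hdeg χ, hdeg θ, hprv] at h
    have h' : ((d + 1 : ℕ) : ℂ) = (charDegree (θ : G → ℂ) : ℂ) := by
      push_cast; linear_combination h
    exact (Nat.cast_inj.1 h').symm
  have hdpos : 0 < d := charDegree_pos χ.2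
  obtain ⟨m, hm⟩ := hsum3 χ
  rw [hχx] at hm
  have hm' : d + 2 = 3 * m := by
    exact_mod_cast (by push_cast; linear_combination hm : ((d + 2 : ℕ) : ℂ) = ((3 * m : ℕ) : ℂ))
  have hd1 : d ≠ 1 := by
    intro h1
    obtain ⟨l, hl⟩ := irr_mem_linear χ.2 ((charDegree_eq_one_iff χ.2).1 h1)
    apply hne1
    refine Subtype.ext (funext fun g => ?_)
    rw [hl g, linear_commutator (hperf ▸ mem_top g : g ∈ commutator G), Units.val_one]
  have hd4 : 4 ≤ d := by omega
  -- values at involutions
  have hinv : ∀ t : G, orderOf t = 2 → ∃ a : ℤ, (χ : G → ℂ) t = a ∧ (θ : G → ℂ) t = 1 + a := by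
    intro t ht
    obtain ⟨k, hk, -⟩ := exists_mod_four hperf χ ht
    refine ⟨(d : ℤ) - 4 * k, by rw [hk]; push_cast; ring, ?_⟩
    have h := sum_orth (G := G) (g := t) (h := x) (fun h => by
      obtain ⟨c, hc⟩ := isConj_iff.1 h
      have := orderOf_injective (MulAut.conj c).toMonoidHom (MulAut.conj c).injective t
      simp only [MulEquiv.coe_toMonoidHom, MulAut.conj_apply, hc] at this
      omega)
    rw [expand fun ψ => (ψ : G → ℂ) t, hprv, hk] at h
    push_cast
    linear_combination -h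
  obtain ⟨a, haχ, haθ⟩ := hinv s hs2
  set C := centralizer ({s} : Set G) with hCdef
  have hidx : ((C.index : ℂ)) * (Nat.card C : ℂ) = (Nat.card G : ℂ) := by
    exact_mod_cast C.index_mul_card
  have hidxx : ((centralizer ({x} : Set G)).index : ℂ) * 3 = (Nat.card G : ℂ) := by
    have := (centralizer ({x} : Set G)).index_mul_card
    rw [hC, hXc] at this
    rw [hC]
    exact_mod_cast this
  have hG0 : (Nat.card G : ℂ) ≠ 0 := card_ne_zero_complex G
  have hd0 : (d : ℂ) ≠ 0 := Nat.cast_ne_zero.2 (by omega)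
  have hd10 : (d : ℂ) + 1 ≠ 0 := by exact_mod_cast (Nat.succ_ne_zero d)
  have hθ1 : (θ : G → ℂ) 1 = (d : ℂ) + 1 := by rw [hdeg, hθd]; push_cast; ring
  have hχ1 : (χ : G → ℂ) 1 = (d : ℂ) := hdeg χ
  -- one class of involutions
  have hclass : ∀ t : G, orderOf t = 2 → IsConj t s := by
    intro t ht
    by_contra hts
    obtain ⟨b, hbχ, hbθ⟩ := hinv t ht
    have hempty : Nat.card {i : G // IsConj i t ∧ IsConj (i⁻¹ * x) t} = 0 := by
      rw [Nat.card_eq_zero]
      refine Or.inl ⟨fun i => hts ?_⟩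
      obtain ⟨i, hi1, hi2⟩ := i
      have hord : ∀ {g : G}, IsConj g t → orderOf g = 2 := fun {g} hg => by
        obtain ⟨c, hc⟩ := isConj_iff.1 hg
        have := orderOf_injective (MulAut.conj c).toMonoidHom (MulAut.conj c).injective g
        simp only [MulEquiv.coe_toMonoidHom, MulAut.conj_apply, hc] at this
        omega
      have hi' := hord hi1
      have hii : i⁻¹ = i := inv_eq_of_mul_eq_one_right (by rw [← pow_two, ← hi', pow_orderOf_eq_one])
      have hu := mem_coset_of_inv hC hs hi' (by rw [← hii]; exact hord hi2)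
      have := isConj_mul hx hs hu
      rw [mul_inv_cancel_left] at this
      exact hi1.symm.trans this
    have h := card_factor t t x
    rw [hempty, Nat.cast_zero, mul_zero, expand fun ψ => (ψ : G → ℂ) t * (ψ : G → ℂ) t / (ψ : G → ℂ) 1,
      hbχ, hbθ, hχ1, hθ1] at h
    simp only [hprv, one_mul, div_one] at h
    have hi0 : ((centralizer ({t} : Set G)).index : ℂ) ≠ 0 := Nat.cast_ne_zero.2 index_ne_zero_of_finite
    rw [eq_comm, mul_eq_zero] at h
    have h' := h.resolve_left (mul_ne_zero hi0 hi0)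
    field_simp at h'
    have h3 : ((d : ℂ) - b) ^ 2 = 0 := by linear_combination h'
    have h4 : (χ : G → ℂ) t = (χ : G → ℂ) 1 := by
      rw [hbχ, hχ1]; exact (sub_eq_zero.1 (pow_eq_zero_iff two_ne_zero |>.1 h3)).symm
    have := eq_one_of_apply_eq χ (fun e => hne1 (Subtype.ext e)) h4
    rw [this, orderOf_one] at ht
    omega
  -- three factorizations into involutions
  have hthree : Nat.card {i : G // IsConj i s ∧ IsConj (i⁻¹ * x) s} = 3 := by
    rw [← hXc]
    refine (Nat.card_congr (Equiv.ofBijective (fun u : X =>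
      (⟨s * u, isConj_mul hx hs u.2, ?_⟩ : {i : G // IsConj i s ∧ IsConj (i⁻¹ * x) s})) ⟨?_, ?_⟩)).symm
    · have h1 := orderOf_inv_mul hx hs hs2 u.2
      rw [inv_eq_of_mul_eq_one_right (show s * (u : G) * (s * u) = 1 by
        rw [← pow_two, ← h1, pow_orderOf_eq_one]), mul_assoc]
      exact isConj_mul hx hs (mul_mem u.2 (mem_zpowers x))
    · intro u u' h
      exact Subtype.ext (mul_left_cancel (congrArg Subtype.val h))
    · rintro ⟨i, hi1, hi2⟩
      have hord : ∀ {g : G}, IsConj g s → orderOf g = 2 := fun {g} hg => by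
        obtain ⟨c, hc⟩ := isConj_iff.1 hg
        have := orderOf_injective (MulAut.conj c).toMonoidHom (MulAut.conj c).injective g
        simp only [MulEquiv.coe_toMonoidHom, MulAut.conj_apply, hc] at this
        omega
      have hi' := hord hi1
      have hii : i⁻¹ = i := inv_eq_of_mul_eq_one_right (by rw [← pow_two, ← hi', pow_orderOf_eq_one])
      exact ⟨⟨_, mem_coset_of_inv hC hs hi' (by rw [← hii]; exact hord hi2)⟩, Subtype.ext (by simp)⟩
  have hE1 : (Nat.card G : ℂ) * ((d : ℂ) - a) ^ 2 = 3 * (Nat.card C : ℂ) ^ 2 * (d * (d + 1)) := by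
    have h := card_factor s s x
    rw [hthree, expand fun ψ => (ψ : G → ℂ) s * (ψ : G → ℂ) s / (ψ : G → ℂ) 1, haχ, haθ, hχ1, hθ1] at h
    simp only [hprv, one_mul, div_one] at h
    field_simp at h
    refine mul_left_cancel₀ hG0 ?_
    linear_combination (-(Nat.card C : ℂ) ^ 2) * h -
      ((d : ℂ) - a) ^ 2 * ((C.index : ℂ) * Nat.card C + Nat.card G) * hidx
  have horder3 : ∀ {g : G}, IsConj g x ↔ orderOf g = 3 := fun {g} => ⟨fun hg => by
    obtain ⟨c, hc⟩ := isConj_iff.1 hg
    have := orderOf_injective (MulAut.conj c).toMonoidHom (MulAut.conj c).injective g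
    simp only [MulEquiv.coe_toMonoidHom, MulAut.conj_apply, hc] at this
    omega, isConj_of_orderOf_three hx hC hs⟩
  have horder2 : ∀ {g : G}, IsConj g s ↔ orderOf g = 2 := fun {g} => ⟨fun hg => by
    obtain ⟨c, hc⟩ := isConj_iff.1 hg
    have := orderOf_injective (MulAut.conj c).toMonoidHom (MulAut.conj c).injective g
    simp only [MulEquiv.coe_toMonoidHom, MulAut.conj_apply, hc] at this
    omega, hclass g⟩
  have hI : Nat.card {i : G // IsConj i s ∧ IsConj (i⁻¹ * x) x} = Nat.card (invSet x) := by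
    refine Nat.card_congr (Equiv.subtypeEquivRight fun i => ?_)
    rw [horder2, horder3]
    refine and_congr_right fun hi => ?_
    rw [inv_eq_of_mul_eq_one_right (show i * i = 1 by rw [← pow_two, ← hi, pow_orderOf_eq_one])]
  have hN : Nat.card {i : G // IsConj i x ∧ IsConj (i⁻¹ * x) x} = Nat.card (facSet x) := by
    refine Nat.card_congr (Equiv.subtypeEquivRight fun i => ?_)
    rw [horder3, horder3]; rfl
  have hC0 : (Nat.card C : ℂ) ≠ 0 := Nat.cast_ne_zero.2 Nat.card_pos.ne'
  have hE2 : (Nat.card (invSet x) : ℂ) * ((d : ℂ) - a) ^ 2 =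
      Nat.card C * ((d : ℂ) ^ 2 + 2 * d + a * (2 * d + 1)) := by
    have h := card_factor s x x
    rw [hI, expand fun ψ => (ψ : G → ℂ) s * (ψ : G → ℂ) x / (ψ : G → ℂ) 1, haχ, hχx, haθ, hθx,
      hχ1, hθ1] at h
    simp only [hprv, one_mul, div_one] at h
    field_simp at h
    have h' : 3 * (Nat.card C : ℂ) * Nat.card (invSet x) * ((d : ℂ) * (d + 1)) =
        Nat.card G * ((d : ℂ) ^ 2 + 2 * d + a * (2 * d + 1)) := by
      refine mul_left_cancel₀ hG0 ?_
      linear_combination (3 * (Nat.card C : ℂ)) * h +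
        ((d : ℂ) ^ 2 + 2 * d + a * (2 * d + 1)) *
          (3 * ((centralizer ({x} : Set G)).index : ℂ) * hidx + (Nat.card G : ℂ) * hidxx)
    refine mul_left_cancel₀ hG0 ?_
    linear_combination (Nat.card (invSet x) : ℂ) * hE1 + (Nat.card C : ℂ) * h'
  have hE3 : 3 * (Nat.card (facSet x) : ℂ) * ((d : ℂ) - a) ^ 2 =
      (Nat.card C : ℂ) ^ 2 * ((d : ℂ) ^ 2 + d + 1) := by
    have h := card_factor x x x
    rw [hN, expand fun ψ => (ψ : G → ℂ) x * (ψ : G → ℂ) x / (ψ : G → ℂ) 1, hχx, hθx, hχ1, hθ1] at h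
    simp only [hprv, one_mul, div_one] at h
    field_simp at h
    have h' : 9 * (Nat.card (facSet x) : ℂ) * ((d : ℂ) * (d + 1)) =
        Nat.card G * ((d : ℂ) ^ 2 + d + 1) := by
      refine mul_left_cancel₀ hG0 ?_
      linear_combination 9 * h + ((d : ℂ) ^ 2 + d + 1) *
        (3 * ((centralizer ({x} : Set G)).index : ℂ) + Nat.card G) * hidxx
    refine mul_left_cancel₀ hG0 ?_
    linear_combination 3 * (Nat.card (facSet x) : ℂ) * hE1 + (Nat.card C : ℂ) ^ 2 * h'
  -- inequalities
  have hsub : ∀ ψ : IrrCharacter G, ∀ g : G, ∀ u ∈ X, IsConj g s → (ψ : G → ℂ) (s * u) = (ψ : G → ℂ) g :=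
    fun ψ g u hu hg => hval (isClassFunction_of_isIrr ψ.2) ((isConj_mul hx hs hu).trans hg.symm)
  set H := normalizer (zpowers x : Set G) with hH
  have hH6 : Nat.card H = 6 := card_normalizer_six hx hC hs hs2
  have hlow : -(d : ℤ) - 2 ≤ 3 * a := by
    obtain ⟨k, hk⟩ := exists_nat_sum_subgroup (isCharacter_of_isIrr χ.2) H
    rw [sum_normalizer hx hC hs hs2, hH6, hinvx, hχx, hχ1, hsub χ s x (mem_zpowers x) (IsConj.refl s),
      hsub χ s x⁻¹ (inv_mem (mem_zpowers x)) (IsConj.refl s), haχ] at hk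
    have : (d : ℤ) + 2 + 3 * a = 6 * k := by
      exact_mod_cast (by push_cast at hk ⊢; linear_combination hk :
        (((d : ℤ) + 2 + 3 * a : ℤ) : ℂ) = ((6 * k : ℤ) : ℂ))
    omega
  have hup : 3 * a ≤ (d : ℤ) - 4 := by
    haveI := Fintype.ofFinite H
    have hXH : X ≤ H := le_normalizer
    have hidx2 : (X.subgroupOf H).index = 2 := by
      have := (X.subgroupOf H).card_mul_index
      rw [Nat.card_congr (subgroupOfEquivOfLe hXH).toEquiv, hXc, hH6] at this
      omega
    let l : H →* ℂˣ := MonoidHom.mk' (fun h => if h ∈ X.subgroupOf H then 1 else -1) (by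
      intro g h
      have := Subgroup.mul_mem_iff_of_index_two hidx2 (a := g) (b := h)
      by_cases hg : g ∈ X.subgroupOf H <;> by_cases hh : h ∈ X.subgroupOf H <;>
        simp [hg, hh, this])
    have hch : IsCharacter H ((fun h : H => (θ : G → ℂ) h) * fun h => ((l h : ℂˣ) : ℂ)) :=
      isCharacter_mul (isCharacter_restrict (isCharacter_of_isIrr θ.2) H)
        (isCharacter_of_isIrr (isIrrCharacter_linear l))
    obtain ⟨k, hk⟩ := exists_nat_sum_subgroup hch ⊤
    rw [Subgroup.card_top, hH6, Finset.filter_true_of_mem (fun y _ => mem_top y)] at hk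
    let F : G → ℂ := fun y => (θ : G → ℂ) y * if y ∈ X then 1 else -1
    have hk' : ∑ y ∈ Finset.univ.filter (fun y => y ∈ H), F y = (6 : ℂ) * k := by
      rw [Finset.sum_subtype _ (p := fun y => y ∈ H) (fun y => by simp)]
      refine Eq.trans (Finset.sum_congr rfl fun y _ => ?_) (hk.trans (by norm_num))
      simp only [F, l, Pi.mul_apply, MonoidHom.mk'_apply, mem_subgroupOf]
      split_ifs <;> simp
    rw [sum_normalizer hx hC hs hs2] at hk'
    have hn : ∀ u ∈ X, s * u ∉ X := fun u hu h =>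
      s_not_mem hx hs2 (by simpa using X.mul_mem h (X.inv_mem hu))
    have hxX : x ∈ X := mem_zpowers x
    have hsX : s ∉ X := s_not_mem hx hs2
    simp only [F, if_pos (one_mem X), if_pos hxX, if_pos (X.inv_mem hxX),
      if_neg hsX, if_neg (hn x (mem_zpowers x)),
      if_neg (hn x⁻¹ (inv_mem (mem_zpowers x))), hinvx, hθx, hθ1,
      hsub θ s x (mem_zpowers x) (IsConj.refl s),
      hsub θ s x⁻¹ (inv_mem (mem_zpowers x)) (IsConj.refl s), haθ] at hk'
    have : (d : ℤ) - 1 - 3 * (1 + a) = 6 * k := by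
      exact_mod_cast (by push_cast at hk' ⊢; linear_combination hk' :
        (((d : ℤ) - 1 - 3 * (1 + a) : ℤ) : ℂ) = ((6 * k : ℤ) : ℂ))
    omega
  have hthreeS : ({pr, χ, θ} : Finset (IrrCharacter G)) ⊆ Finset.univ := Finset.subset_univ _
  have hsum3' : ∀ f : IrrCharacter G → ℝ, (∀ ψ, 0 ≤ f ψ) → f pr + f χ + f θ ≤ ∑ ψ, f ψ := by
    intro f hf
    refine le_trans (le_of_eq ?_) (Finset.sum_le_sum_of_subset_of_nonneg hthreeS fun ψ _ _ => hf ψ)
    rw [Finset.sum_insert (by simp [hne1.symm, hne2.symm]), Finset.sum_pair hχθ, add_assoc]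
  refine ⟨d, a, hd4, by omega, hup, hlow, ?_, ?_, charDegree_dvd_card χ.2, ?_, ?_, hclass, ?_, ?_⟩
  · have h := sum_irr_normSq (G := G) s
    have h' : ∑ ψ : IrrCharacter G, Complex.normSq ((ψ : G → ℂ) s) = (Nat.card C : ℝ) := by exact_mod_cast h
    have := hsum3' (fun ψ => Complex.normSq ((ψ : G → ℂ) s)) fun ψ => Complex.normSq_nonneg _
    rw [h', hprv, haχ, haθ, show ((1 : ℂ) + (a : ℂ)) = (((1 + a : ℤ)) : ℂ) by push_cast; rfl,
      map_one, Complex.normSq_intCast, Complex.normSq_intCast] at this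
    have h5 : (((1 + a ^ 2 + (1 + a) ^ 2 : ℤ)) : ℝ) ≤ (((Nat.card C : ℤ)) : ℝ) := by
      push_cast; push_cast at this; nlinarith
    exact_mod_cast h5
  · exact_mod_cast hE1
  · exact hθd ▸ charDegree_dvd_card θ.2
  · rw [← sum_charDegree_sq (G := G)]
    refine le_trans (le_of_eq ?_) (Finset.sum_le_sum_of_subset hthreeS)
    rw [Finset.sum_insert (by simp [hne1.symm, hne2.symm]), Finset.sum_pair hχθ, hθd,
      show charDegree (pr : G → ℂ) = 1 from charDegree_one, one_pow, add_assoc]
  · exact_mod_cast hE2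
  · exact_mod_cast hE3

end Cfsg.Agent.Lib.FTThree
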