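import Mathlib

/-!
# Sums of pairwise coprime numbers
-/

set_option autoImplicit false

namespace Cfsg.Agent.Lib.FTThree

theorem sum_sub_one_le {ι : Type*} (B : Finset ι) (f : ι → ℕ) (h1 : ∀ b ∈ B, 1 ≤ f b) :
    ∑ b ∈ B, (f b - 1) + 1 ≤ ∏ b ∈ B, f b := by
  induction B using Finset.cons_induction with
  | empty => simp
  | cons a s ha ih =>
    rw [Finset.sum_cons, Finset.prod_cons]
    have := ih fun b hb => h1 b (Finset.mem_cons_of_mem hb)
    have ha' := h1 a (Finset.mem_cons_self a s)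
    obtain ⟨k, hk⟩ : ∃ k, f a = k + 1 := ⟨f a - 1, by omega⟩
    rw [hk, Nat.add_sub_cancel, add_mul, one_mul]
    have h2 : k * 1 ≤ k * ∏ x ∈ s, f x := Nat.mul_le_mul_left k (by omega)
    omega

theorem sq_sum_le {G : ℕ} (hG : 3 ≤ G) (B : Finset ℕ) (h1 : ∀ b ∈ B, 1 ≤ b)
    (h3 : ∀ b ∈ B, 3 * b ^ 2 ≤ G) (hp : 12 * ∏ b ∈ B, b ≤ G) :
    16 * (∑ b ∈ B, (b - 1)) ^ 2 ≤ 27 * G := by
  classical
  obtain ⟨T, hT, hmax⟩ := Finset.exists_max_image
    (B.powerset.filter fun T => 3 * (∏ b ∈ T, b) ^ 2 ≤ G) Finset.card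
    ⟨∅, Finset.mem_filter.2 ⟨Finset.empty_mem_powerset _, by simpa using hG⟩⟩
  rw [Finset.mem_filter, Finset.mem_powerset] at hT
  set P := ∏ b ∈ T, b with hP
  have hP1 : 1 ≤ P := (Finset.prod_pos (f := fun b : ℕ => b) fun b hb => h1 b (hT.1 hb))
  have hsP : ∑ b ∈ T, (b - 1) + 1 ≤ P := sum_sub_one_le T id fun b hb => h1 b (hT.1 hb)
  by_cases he : T = B
  · subst he
    have : (∑ b ∈ T, (b - 1)) ^ 2 ≤ P ^ 2 := Nat.pow_le_pow_left (by omega) 2
    omega
  obtain ⟨j, hjB, hjT⟩ := Finset.exists_of_ssubset (lt_of_le_of_ne hT.1 he)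
  have hsub : insert j T ⊆ B := Finset.insert_subset hjB hT.1
  have hlt : G < 3 * (j * P) ^ 2 := by
    by_contra hc
    push Not at hc
    have h' := hmax (insert j T) (Finset.mem_filter.2 ⟨Finset.mem_powerset.2 hsub, by
      rw [Finset.prod_insert hjT]; exact hc⟩)
    rw [Finset.card_insert_of_notMem hjT] at h'
    omega
  set R := B \ insert j T with hR
  set r := ∏ b ∈ R, b with hr
  have hsplit : ∀ f : ℕ → ℕ, ∑ b ∈ B, f b = f j + ∑ b ∈ T, f b + ∑ b ∈ R, f b := fun f => by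
    rw [← Finset.sum_sdiff hsub, Finset.sum_insert hjT, add_comm]
  have hprod : ∏ b ∈ B, b = j * P * r := by
    rw [← Finset.prod_sdiff hsub, Finset.prod_insert hjT, mul_comm]
  have hsr : ∑ b ∈ R, (b - 1) + 1 ≤ r :=
    sum_sub_one_le R id fun b hb => h1 b (Finset.mem_sdiff.1 hb).1
  rw [hprod] at hp
  have hr48 : 48 * r ^ 2 ≤ G := by
    have a1 : (12 * (j * P * r)) ^ 2 ≤ G ^ 2 := Nat.pow_le_pow_left hp 2
    by_contra hc
    push Not at hc
    have a2 : G * G < (48 * r ^ 2) * (3 * (j * P) ^ 2) :=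
      Nat.mul_lt_mul_of_lt_of_lt hc hlt
    have a3 : (48 * r ^ 2) * (3 * (j * P) ^ 2) = (12 * (j * P * r)) ^ 2 := by ring
    rw [a3] at a2
    rw [sq G] at a1
    omega
  rw [hsplit]
  set m := max (max P j) (4 * r)
  have hm : 3 * m ^ 2 ≤ G := by
    rcases max_cases (max P j) (4 * r) with ⟨e, -⟩ | ⟨e, -⟩
    · rcases max_cases P j with ⟨e', -⟩ | ⟨e', -⟩ <;> simp only [m, e, e']
      · exact hT.2
      · exact h3 j hjB
    · simp only [m, e]; rw [mul_pow]; omega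
  have hle : 4 * (j - 1 + ∑ b ∈ T, (b - 1) + ∑ b ∈ R, (b - 1)) ≤ 9 * m := by
    have : P ≤ m := le_trans (le_max_left _ _) (le_max_left _ _)
    have : j ≤ m := le_trans (le_max_right _ _) (le_max_left _ _)
    have : 4 * r ≤ m := le_max_right _ _
    omega
  have := Nat.pow_le_pow_left hle 2
  rw [mul_pow, mul_pow] at this
  omega

end Cfsg.Agent.Lib.FTThree
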