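import Mathlib

/-!
# Two involutory automorphisms of a nilpotent group of odd order with fixed-point-free product
-/

set_option autoImplicit false
set_option linter.style.haveILetI false

namespace Cfsg.Agent.Lib.FTThree

open Subgroup

universe u

theorem card_le_fix_aux : ∀ (n : ℕ) (M : Type u) [Group M] [Finite M] [Group.IsNilpotent M] (φ ψ : M ≃* M),
    (∀ m, φ (φ m) = m) → (∀ m, ψ (ψ m) = m) → (∀ m, φ (ψ m) = m → m = 1) → Odd (Nat.card M) →
      Nat.card M ≤ n → Nat.card M ≤ Nat.card {m // φ m = m} * Nat.card {m // ψ m = m} := by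
  intro n
  induction n with
  | zero => intro M _ _ _ φ ψ _ _ _ _ h; have := Nat.card_pos (α := M); omega
  | succ n ih =>
    intro M _ _ _ φ ψ hφ hψ hf hodd hn
    haveI : Nonempty {m : M // φ m = m} := ⟨⟨1, map_one φ⟩⟩
    haveI : Nonempty {m : M // ψ m = m} := ⟨⟨1, map_one ψ⟩⟩
    rcases subsingleton_or_nontrivial M with h | h
    · rw [Nat.card_unique]
      exact Nat.mul_pos Nat.card_pos Nat.card_pos
    set Z := center M with hZ
    haveI : Nontrivial Z := (nontrivial_iff_ne_bot _).2 (Group.IsNilpotent.center_ne_bot M)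
    have hoZ : Odd (Nat.card Z) := hodd.of_dvd_nat Z.card_subgroup_dvd_card
    have hmap : ∀ e : M ≃* M, ∀ z ∈ Z, e z ∈ Z := by
      intro e z hz
      rw [hZ, mem_center_iff] at hz ⊢
      intro g
      rw [← e.apply_symm_apply g, ← map_mul, hz, map_mul]
    have hmap' : ∀ e : M ≃* M, Z.map e.toMonoidHom = Z := by
      intro e
      ext z
      exact ⟨fun ⟨w, hw, hwz⟩ => hwz ▸ hmap e w hw,
        fun hz => ⟨e.symm z, hmap e.symm z hz, e.apply_symm_apply z⟩⟩
    let φq : (M ⧸ Z) ≃* (M ⧸ Z) := QuotientGroup.congr Z Z φ (hmap' φ)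
    let ψq : (M ⧸ Z) ≃* (M ⧸ Z) := QuotientGroup.congr Z Z ψ (hmap' ψ)
    have hφq : ∀ m : M, φq (m : M ⧸ Z) = ((φ m : M) : M ⧸ Z) := fun m => rfl
    have hψq : ∀ m : M, ψq (m : M ⧸ Z) = ((ψ m : M) : M ⧸ Z) := fun m => rfl
    have hcard : Nat.card (M ⧸ Z) * Nat.card Z = Nat.card M := (Subgroup.card_eq_card_quotient_mul_card_subgroup Z).symm
    have hcomm : ∀ z ∈ Z, ∀ m : M, z * m = m * z := fun z hz m => (mem_center_iff.1 hz m).symm
    -- a fixed point of the product on the quotient is trivial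
    have hfq : ∀ q, φq (ψq q) = q → q = 1 := by
      intro q hq
      obtain ⟨m, rfl⟩ := QuotientGroup.mk_surjective q
      rw [hψq, hφq, QuotientGroup.eq] at hq
      set f : M → M := fun y => φ (ψ y) with hfdef
      have hfm : ∀ a b, f (a * b) = f a * f b := fun a b => by simp [hfdef]
      have hfi : ∀ a, f a⁻¹ = (f a)⁻¹ := fun a => by simp [hfdef]
      let T : Z → Z := fun z => ⟨(z : M)⁻¹ * f z, Z.mul_mem (Z.inv_mem z.2) (hmap φ _ (hmap ψ _ z.2))⟩
      have hT : Function.Injective T := by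
        intro a b hab
        have h' : (a : M)⁻¹ * f a = (b : M)⁻¹ * f b := congrArg Subtype.val hab
        have h1 : f ((a : M) * (b : M)⁻¹) = (a : M) * (b : M)⁻¹ := by
          have ha : f (a : M) = (a : M) * ((b : M)⁻¹ * f b) := by rw [← h', mul_inv_cancel_left]
          rw [hfm, hfi, ha]
          group
        exact Subtype.ext (mul_inv_eq_one.1 (hf _ h1))
      obtain ⟨w, hw⟩ := Finite.surjective_of_injective hT ⟨m⁻¹ * f m, by
        have := Z.inv_mem hq
        rwa [mul_inv_rev, inv_inv] at this⟩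
      have hw' : (w : M)⁻¹ * f w = m⁻¹ * f m := congrArg Subtype.val hw
      have h1 : f (m * (w : M)⁻¹) = m * (w : M)⁻¹ := by
        have hm : f m = m * ((w : M)⁻¹ * f w) := by rw [hw', mul_inv_cancel_left]
        rw [hfm, hfi, hm]
        group
      rw [mul_inv_eq_one.1 (hf _ h1)]
      exact (QuotientGroup.eq_one_iff _).2 w.2
    -- lifting of fixed points
    have lift : ∀ (e : M ≃* M) (eq' : (M ⧸ Z) → (M ⧸ Z)), (∀ m, e (e m) = m) →
        (∀ m : M, eq' (m : M ⧸ Z) = ((e m : M) : M ⧸ Z)) →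
        Nat.card {z : Z // e z = z} * Nat.card {q // eq' q = q} ≤ Nat.card {m // e m = m} := by
      intro e eq' he heq
      have hl : ∀ q : {q // eq' q = q}, ∃ m : {m // e m = m}, ((m : M) : M ⧸ Z) = q := by
        rintro ⟨q, hq⟩
        obtain ⟨m, rfl⟩ := QuotientGroup.mk_surjective q
        rw [heq, eq_comm, QuotientGroup.eq] at hq
        set z := m⁻¹ * e m with hz
        have hem : e m = m * z := by rw [hz, mul_inv_cancel_left]
        have hez : e z = z⁻¹ := by
          rw [hz, map_mul, map_inv, he, mul_inv_rev, inv_inv]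
        obtain ⟨k, hk⟩ := hodd
        set w := z ^ (k + 1) with hw
        have hw2 : w * w = z := by
          rw [hw, ← pow_add]
          have hz1 : z ^ Nat.card M = 1 := pow_card_eq_one'
          rw [show k + 1 + (k + 1) = Nat.card M + 1 by omega, pow_succ, hz1, one_mul]
        refine ⟨⟨m * w, ?_⟩, ?_⟩
        · rw [map_mul, hem, hw, map_pow, hez, ← hw, mul_assoc, inv_pow, ← hw]
          congr 1
          rw [mul_inv_eq_iff_eq_mul, hw2]
        · exact QuotientGroup.eq.2 (by simpa using Z.inv_mem (Z.pow_mem hq (k + 1)))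
      choose L hL using hl
      rw [← Nat.card_prod]
      refine Nat.card_le_card_of_injective (fun p => (⟨(p.1.1 : M) * (L p.2 : M), by
        rw [map_mul, p.1.2, (L p.2).2]⟩ : {m // e m = m})) fun p p' hpp => ?_
      have h' : (p.1.1 : M) * (L p.2 : M) = (p'.1.1 : M) * (L p'.2 : M) := congrArg Subtype.val hpp
      have h2 : p.2 = p'.2 := by
        refine Subtype.ext ?_
        rw [← hL p.2, ← hL p'.2]
        have := congrArg (QuotientGroup.mk (s := Z)) h'
        rwa [QuotientGroup.mk_mul, QuotientGroup.mk_mul, (QuotientGroup.eq_one_iff _).2 p.1.1.2,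
          (QuotientGroup.eq_one_iff _).2 p'.1.1.2, one_mul, one_mul] at this
      rw [h2] at h'
      exact Prod.ext (Subtype.ext (Subtype.ext (mul_right_cancel h'))) h2
    have hlφ := lift φ φq hφ hφq
    have hlψ := lift ψ ψq hψ hψq
    have hZle : Nat.card Z ≤ Nat.card {z : Z // φ z = z} * Nat.card {z : Z // ψ z = z} := by
      rw [← Nat.card_prod]
      refine Nat.card_le_card_of_injective (fun z : Z =>
        ((⟨⟨(z : M) * φ z, Z.mul_mem z.2 (hmap φ _ z.2)⟩, by
            show φ ((z : M) * φ z) = (z : M) * φ z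
            rw [map_mul, hφ, hcomm _ (hmap φ _ z.2)]⟩ : {z : Z // φ z = z}),
         (⟨⟨(z : M) * ψ z, Z.mul_mem z.2 (hmap ψ _ z.2)⟩, by
            show ψ ((z : M) * ψ z) = (z : M) * ψ z
            rw [map_mul, hψ, hcomm _ (hmap ψ _ z.2)]⟩ : {z : Z // ψ z = z}))) fun a b hab => ?_
      have h1 : (a : M) * φ a = (b : M) * φ b :=
        congrArg (fun z => ((z : {z : Z // φ z = z} × {z : Z // ψ z = z}).1.1 : M)) hab
      have h2 : (a : M) * ψ a = (b : M) * ψ b :=
        congrArg (fun z => ((z : {z : Z // φ z = z} × {z : Z // ψ z = z}).2.1 : M)) hab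
      set c := (a : M)⁻¹ * (b : M) with hc
      have hcZ : c ∈ Z := Z.mul_mem (Z.inv_mem a.2) b.2
      have key : ∀ e : M ≃* M, (a : M) * e a = (b : M) * e b → e c = c⁻¹ := by
        intro e he
        rw [hc, map_mul, map_inv, mul_inv_rev, inv_inv]
        have heb : e (b : M) = (b : M)⁻¹ * (a : M) * e a := by
          rw [mul_assoc, he, inv_mul_cancel_left]
        rw [heb, hcomm _ (Z.mul_mem (Z.inv_mem b.2) a.2) (e (a : M)), inv_mul_cancel_left]
      have hc1 : c = 1 := hf c (by rw [key ψ h2, map_inv, key φ h1, inv_inv])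
      exact Subtype.ext (inv_mul_eq_one.1 hc1)
    have hQlt : Nat.card (M ⧸ Z) ≤ n := by
      have h2 : 1 < Nat.card Z := Finite.one_lt_card
      have h3 : 0 < Nat.card (M ⧸ Z) := Nat.card_pos
      have h4 := Nat.mul_le_mul_left (Nat.card (M ⧸ Z)) h2
      omega
    have hQ := ih (M ⧸ Z) φq ψq
      (fun q => by obtain ⟨m, rfl⟩ := QuotientGroup.mk_surjective q; rw [hφq, hφq, hφ])
      (fun q => by obtain ⟨m, rfl⟩ := QuotientGroup.mk_surjective q; rw [hψq, hψq, hψ])
      hfq (hodd.of_dvd_nat ⟨_, hcard.symm⟩) hQlt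
    calc Nat.card M = Nat.card (M ⧸ Z) * Nat.card Z := hcard.symm
      _ ≤ (Nat.card {q // φq q = q} * Nat.card {q // ψq q = q}) *
          (Nat.card {z : Z // φ z = z} * Nat.card {z : Z // ψ z = z}) := Nat.mul_le_mul hQ hZle
      _ = (Nat.card {z : Z // φ z = z} * Nat.card {q // φq q = q}) *
          (Nat.card {z : Z // ψ z = z} * Nat.card {q // ψq q = q}) := by ring
      _ ≤ _ := Nat.mul_le_mul hlφ hlψ

theorem card_le_fix {M : Type u} [Group M] [Finite M] [Group.IsNilpotent M] (φ ψ : M ≃* M)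
    (hφ : ∀ m, φ (φ m) = m) (hψ : ∀ m, ψ (ψ m) = m) (hf : ∀ m, φ (ψ m) = m → m = 1)
    (hodd : Odd (Nat.card M)) :
    Nat.card M ≤ Nat.card {m // φ m = m} * Nat.card {m // ψ m = m} :=
  card_le_fix_aux _ M φ ψ hφ hψ hf hodd le_rfl

end Cfsg.Agent.Lib.FTThree
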