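import Mathlib

/-!
# Arithmetic of the Feit–Thompson theorem on a self-centralizing subgroup of order three
-/

set_option autoImplicit false

namespace Cfsg.Agent.Lib.FTThree

/-- Possible orders of an even invariant subgroup smaller than the involution centralizer. -/
def evenMax (C : ℕ) : ℕ :=
  ((Finset.range C).filter fun e => e % 2 = 0 ∧ e % 3 = 1 ∧ C % e = 0).sup id

/-- The condition on the order of an invariant subgroup of odd order. -/
def OddOrd (G C b : ℕ) : Prop :=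
  b % 2 = 1 ∧ b % 3 = 1 ∧ G % b = 0 ∧ Nat.gcd b (G / b) = 1 ∧ (3 * b ^ 2 ≤ G ∨ b ≤ Nat.gcd b C ^ 2)

instance (G C b : ℕ) : Decidable (OddOrd G C b) := by unfold OddOrd; infer_instance

/-- The sum over possible odd orders. -/
def oddSum (G C : ℕ) : ℕ :=
  ((Finset.range (2 * C + C * C / 16 + 1)).filter fun b => OddOrd G C b).sum (· - 1)

/-- The bound on the number of elements in even invariant subgroups. -/
def evenBound (C I : ℕ) : ℕ :=
  (if C % 3 = 1 then 2 * (C - 1) else 0) + I / 3 * (evenMax C - 1)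

theorem evenMax_two (C : ℕ) : 2 * evenMax C ≤ C := by
  suffices evenMax C ≤ C / 2 by omega
  refine Finset.sup_le fun e he => ?_
  rw [Finset.mem_filter, Finset.mem_range] at he
  obtain ⟨k, hk⟩ := Nat.dvd_of_mod_eq_zero he.2.2.2
  have : 2 ≤ k := by
    by_contra hk2
    have : e * k ≤ e * 1 := Nat.mul_le_mul_left e (by omega)
    omega
  have := Nat.mul_le_mul_left e this
  rw [id, Nat.le_div_iff_mul_le (by norm_num)]
  omega

theorem evenMax_four {C : ℕ} (hC : C % 3 = 1) : 4 * evenMax C ≤ C := by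
  suffices evenMax C ≤ C / 4 by omega
  refine Finset.sup_le fun e he => ?_
  rw [Finset.mem_filter, Finset.mem_range] at he
  obtain ⟨k, hk⟩ := Nat.dvd_of_mod_eq_zero he.2.2.2
  have hk3 : k % 3 = 1 := by
    have h := Nat.mul_mod e k 3
    rw [← hk, hC, he.2.2.1, one_mul, Nat.mod_mod] at h
    omega
  have : 4 ≤ k := by
    by_contra hk4
    have : k = 1 := by omega
    subst this
    omega
  have := Nat.mul_le_mul_left e this
  rw [id, Nat.le_div_iff_mul_le (by norm_num)]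
  omega

/-- The bound `4 F ≥ 3 D`. -/
theorem key_ineq {d a : ℤ} (hd : 4 ≤ d) (h1 : 3 * a ≤ d - 4) (h2 : -d - 2 ≤ 3 * a) :
    3 * (d - a) ^ 2 ≤ 4 * (2 * (d ^ 2 + d + 1) - (d ^ 2 + 2 * d + a * (2 * d + 1))) := by
  have h3 : 0 ≤ d + a := by omega
  have h4 : 0 ≤ (d - 3 * a) * (d + a) := mul_nonneg (by omega) h3
  rcases le_or_gt a 1 with ha | ha
  · nlinarith
  · have h5 : (4 : ℤ) * (d + a) ≤ (d - 3 * a) * (d + a) := by nlinarith
    nlinarith

/-- The centralizer of an involution is small. -/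
theorem C_lt {G C d I N e S6 S3 : ℕ} {a : ℤ} (hd : 4 ≤ d) (h1 : 3 * a ≤ d - 4) (h2 : -(d : ℤ) - 2 ≤ 3 * a)
    (hG : (G : ℤ) * (d - a) ^ 2 = 3 * C ^ 2 * (d * (d + 1)))
    (hI : (I : ℤ) * (d - a) ^ 2 = C * (d ^ 2 + 2 * d + a * (2 * d + 1)))
    (hN : 3 * (N : ℤ) * (d - a) ^ 2 = C ^ 2 * (d ^ 2 + d + 1))
    (hC : 0 < C) (he : 2 * e ≤ C) (he4 : C % 3 = 1 → 4 * e ≤ C)
    (h6 : 16 * (S6 + 1) ≤ C ^ 2) (h3 : 4 * S3 ^ 2 ≤ 27 * G)
    (hle : N - 1 ≤ (if C % 3 = 1 then 2 * (C - 1) else 0) + I / 3 * (e - 1) + S6 + S3) :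
    C < 144 := by
  have hI3 : 3 * (I / 3) ≤ I := Nat.mul_div_le I 3
  set D : ℤ := (d : ℤ) - a with hD
  have hD0 : 0 < D := by omega
  have hD3 : 2 * ((d : ℤ) + 2) ≤ 3 * D := by omega
  have hkey := key_ineq (d := (d : ℤ)) (by exact_mod_cast hd) h1 h2
  change 3 * D ^ 2 ≤ _ at hkey
  set Q : ℤ := (d : ℤ) ^ 2 + d + 1
  set P : ℤ := (d : ℤ) ^ 2 + 2 * d + a * (2 * d + 1)
  have hP : 0 ≤ P := by
    have : (0 : ℤ) ≤ C * P := hI ▸ mul_nonneg (Int.natCast_nonneg I) (sq_nonneg D)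
    exact nonneg_of_mul_nonneg_right this (by exact_mod_cast hC)
  have hS : 2 * ((S3 : ℤ) * D) ≤ 9 * C * (d + 1) := by
    refine pow_le_pow_iff_left₀ (by positivity) (by positivity) two_ne_zero |>.1 ?_
    have h3' : (4 : ℤ) * (S3 : ℤ) ^ 2 ≤ 27 * G := by exact_mod_cast h3
    have h' := mul_le_mul_of_nonneg_right h3' (sq_nonneg D)
    have hdd : (0 : ℤ) ≤ C ^ 2 * ((d : ℤ) + 1) := by positivity
    nlinarith [hG, h', hdd]
  have hS' := mul_le_mul_of_nonneg_left hS hD0.le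
  have hCz : (0 : ℤ) < C := by exact_mod_cast hC
  split_ifs at hle with hm
  · have e4 := he4 hm
    have hN1 : (48 : ℤ) * N ≤ 96 * C + 4 * (I * C) + 3 * C ^ 2 + 48 * S3 := by
      have hq : 12 * (I / 3 * (e - 1)) ≤ I * C := by
        have a1 : 4 * (e - 1) ≤ C := by omega
        calc 12 * (I / 3 * (e - 1)) = (3 * (I / 3)) * (4 * (e - 1)) := by ring
          _ ≤ I * C := Nat.mul_le_mul hI3 a1
      have h6' : 16 * S6 + 16 ≤ C ^ 2 := by omega
      have hle' : N ≤ 2 * C + I / 3 * (e - 1) + S6 + S3 := by omega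
      have : 48 * N ≤ 96 * C + 4 * (I * C) + 3 * C ^ 2 + 48 * S3 := by omega
      exact_mod_cast this
    have hN2 := mul_le_mul_of_nonneg_right hN1 (sq_nonneg D)
    have h4 : (C : ℤ) * (3 * D) ≤ 96 * D + 216 * (d + 1) := by
      have hx : (C : ℤ) * (C * (16 * Q - 4 * P - 3 * D ^ 2)) ≤ C * (96 * D ^ 2 + 216 * D * (d + 1)) := by
        nlinarith [hN2, hN, hI, hS']
      have hx' := le_of_mul_le_mul_left hx hCz
      have hy : (C : ℤ) * (3 * D ^ 2) ≤ C * (16 * Q - 4 * P - 3 * D ^ 2) :=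
        mul_le_mul_of_nonneg_left (by nlinarith) hCz.le
      refine le_of_mul_le_mul_left ?_ hD0
      linarith [hx', hy]
    have h5 : ((C : ℤ) - 32) * D ≤ 72 * (d + 1) := by linarith
    by_contra hc
    push Not at hc
    have : (144 : ℤ) - 32 ≤ (C : ℤ) - 32 := by omega
    have := mul_le_mul_of_nonneg_right this hD0.le
    nlinarith
  · have hN1 : (48 : ℤ) * N ≤ 8 * (I * C) + 3 * C ^ 2 + 48 * S3 := by
      have hq : 6 * (I / 3 * (e - 1)) ≤ I * C := by
        have a1 : 2 * (e - 1) ≤ C := by omega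
        calc 6 * (I / 3 * (e - 1)) = (3 * (I / 3)) * (2 * (e - 1)) := by ring
          _ ≤ I * C := Nat.mul_le_mul hI3 a1
      have h6' : 16 * S6 + 16 ≤ C ^ 2 := by omega
      have : 48 * N ≤ 8 * (I * C) + 3 * C ^ 2 + 48 * S3 := by omega
      exact_mod_cast this
    have hN2 := mul_le_mul_of_nonneg_right hN1 (sq_nonneg D)
    have h4 : (C : ℤ) * (3 * D) ≤ 216 * (d + 1) := by
      have hx : (C : ℤ) * (C * (16 * Q - 8 * P - 3 * D ^ 2)) ≤ C * (216 * D * (d + 1)) := by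
        nlinarith [hN2, hN, hI, hS']
      have hx' := le_of_mul_le_mul_left hx hCz
      have hy : (C : ℤ) * (3 * D ^ 2) ≤ C * (16 * Q - 8 * P - 3 * D ^ 2) :=
        mul_le_mul_of_nonneg_left (by nlinarith) hCz.le
      refine le_of_mul_le_mul_left ?_ hD0
      linarith [hx', hy]
    by_contra hc
    push Not at hc
    have : (144 : ℤ) ≤ (C : ℤ) := by omega
    have := mul_le_mul_of_nonneg_right this hD0.le
    nlinarith

/-- A single case of the finite search. -/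
def good (C d : ℕ) (a : ℤ) : Bool :=
  let D := ((d : ℤ) - a).natAbs ^ 2
  let num := 3 * C * C * (d * (d + 1))
  let G := num / D
  let P := ((d : ℤ) * d + 2 * d + a * (2 * d + 1)).natAbs
  let Q := d * d + d + 1
  if C % 3 = 0 then true
  else if (C : ℤ) < 1 + a * a + (1 + a) * (1 + a) then true
  else if 2 * C ≤ d then true
  else if d < 4 then true
  else if (d : ℤ) - 4 < 3 * a then true
  else if 3 * a < -(d : ℤ) - 2 then true
  else if num % D ≠ 0 then true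
  else if G % C ≠ 0 then true
  else if G % d ≠ 0 then true
  else if G % (d + 1) ≠ 0 then true
  else if G % 12 ≠ 0 then true
  else if G % 9 = 0 then true
  else if G < 1 + d * d + (d + 1) * (d + 1) then true
  else if (C * P) % D ≠ 0 then true
  else if (C * C * Q) % (3 * D) ≠ 0 then true
  else if G = 60 ∨ G = 168 then true
  else decide (evenBound C (C * P / D) + 2 * oddSum G C < C * C * Q / (3 * D) - 1)

theorem good_all : ∀ j < 36, ∀ k < 96, ∀ i < 18, good (4 * j) (3 * k + 1) ((i : ℕ) - 9 : ℤ) = true := by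
  decide +kernel

/-- The two possible orders. -/
theorem order_eq {G C d I N : ℕ} {a : ℤ} (hC4 : 4 ∣ C) (hC3 : ¬ 3 ∣ C) (hC : C < 144)
    (hd : 4 ≤ d) (hd3 : d % 3 = 1) (h1 : 3 * a ≤ d - 4) (h2 : -(d : ℤ) - 2 ≤ 3 * a)
    (hn : 1 + a ^ 2 + (1 + a) ^ 2 ≤ C)
    (hG : (G : ℤ) * (d - a) ^ 2 = 3 * C ^ 2 * (d * (d + 1)))
    (hCG : C ∣ G) (hdG : d ∣ G) (hdG' : d + 1 ∣ G) (h12 : 12 ∣ G) (h9 : ¬ 9 ∣ G)
    (hsq : 1 + d ^ 2 + (d + 1) ^ 2 ≤ G)
    (hI : (I : ℤ) * (d - a) ^ 2 = C * (d ^ 2 + 2 * d + a * (2 * d + 1)))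
    (hN : 3 * (N : ℤ) * (d - a) ^ 2 = C ^ 2 * (d ^ 2 + d + 1))
    (hle : N - 1 ≤ evenBound C I + 2 * oddSum G C) : G = 60 ∨ G = 168 := by
  set Dz : ℤ := (d : ℤ) - a with hDz
  have hD0 : 0 < Dz := by omega
  have hD3 : 2 * ((d : ℤ) + 2) ≤ 3 * Dz := by omega
  set D : ℕ := Dz.natAbs ^ 2 with hD
  have hDc : (D : ℤ) = Dz ^ 2 := by rw [hD, Nat.cast_pow, Int.natAbs_sq]
  have hDpos : 0 < D := by rw [hD]; positivity
  have hdlt : d < 2 * C := by
    by_contra hh
    push Not at hh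
    have h' : ((2 : ℤ) * C) ^ 2 ≤ (d : ℤ) ^ 2 := pow_le_pow_left₀ (by positivity) (by exact_mod_cast hh) 2
    have h'' : (2 : ℤ) * d ^ 2 ≤ G := by
      have : 2 * d ^ 2 ≤ G := by nlinarith
      exact_mod_cast this
    have e1 := mul_le_mul_of_nonneg_right h'' (sq_nonneg Dz)
    have e2 : (2 * ((d : ℤ) + 2)) ^ 2 ≤ (3 * Dz) ^ 2 := pow_le_pow_left₀ (by positivity) hD3 2
    have e3 := mul_le_mul_of_nonneg_left e2 (by positivity : (0 : ℤ) ≤ 2 * (d : ℤ) ^ 2)
    have e4 : (3 : ℤ) * (4 * C ^ 2) * (d * (d + 1)) ≤ 3 * d ^ 2 * (d * (d + 1)) := by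
      refine mul_le_mul_of_nonneg_right ?_ (by positivity)
      nlinarith
    have hdz : (4 : ℤ) ≤ d := by exact_mod_cast hd
    nlinarith [mul_nonneg (sq_nonneg (d : ℤ)) (sq_nonneg (d : ℤ))]
  obtain ⟨j, rfl⟩ := hC4
  have hC3' : 4 * j % 3 ≠ 0 := fun h => hC3 (Nat.dvd_of_mod_eq_zero h)
  obtain ⟨k, rfl⟩ : ∃ k, d = 3 * k + 1 := ⟨d / 3, by omega⟩
  have ha : -9 ≤ a ∧ a < 9 := by
    have hj : ((4 * j : ℕ) : ℤ) ≤ 143 := by omega
    constructor
    · by_contra hc; push Not at hc; nlinarith [sq_nonneg (a + 10), sq_nonneg (1 + a)]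
    · by_contra hc; push Not at hc; nlinarith [sq_nonneg (a - 9), sq_nonneg a]
  obtain ⟨i, hi⟩ : ∃ i : ℕ, a + 9 = i := ⟨(a + 9).toNat, by omega⟩
  have := good_all j (by omega) k (by omega) i (by omega)
  rw [show ((i : ℤ) - 9) = a by omega] at this
  set C := 4 * j with hCdef
  set d := 3 * k + 1 with hddef
  have hnum : 3 * C * C * (d * (d + 1)) = G * D := by
    have : ((3 * C * C * (d * (d + 1)) : ℕ) : ℤ) = ((G * D : ℕ) : ℤ) := by
      push_cast; rw [hDc, hG]; ring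
    exact_mod_cast this
  have hPn : 0 ≤ (d : ℤ) * d + 2 * d + a * (2 * d + 1) := by
    have : (0 : ℤ) ≤ C * ((d : ℤ) ^ 2 + 2 * d + a * (2 * d + 1)) :=
      hI ▸ mul_nonneg (Int.natCast_nonneg I) (sq_nonneg Dz)
    have := nonneg_of_mul_nonneg_right this (by omega)
    linarith [sq (d : ℤ)]
  have hIn : C * ((d : ℤ) * d + 2 * d + a * (2 * d + 1)).natAbs = I * D := by
    have : ((C * ((d : ℤ) * d + 2 * d + a * (2 * d + 1)).natAbs : ℕ) : ℤ) = ((I * D : ℕ) : ℤ) := by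
      push_cast; rw [abs_of_nonneg hPn, hDc, hI]; ring
    exact_mod_cast this
  have hNn : C * C * (d * d + d + 1) = N * (3 * D) := by
    have : ((C * C * (d * d + d + 1) : ℕ) : ℤ) = ((N * (3 * D) : ℕ) : ℤ) := by
      push_cast
      rw [hDc]
      linear_combination -hN
    exact_mod_cast this
  rw [good] at this
  simp only [← hDz, ← hD] at this
  rw [hnum, hIn, hNn, Nat.mul_mod_left, Nat.mul_mod_left, Nat.mul_mod_left,
    Nat.mul_div_cancel _ hDpos, Nat.mul_div_cancel _ hDpos, Nat.mul_div_cancel _ (by omega)] at this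
  rw [if_neg hC3', if_neg (by linarith [sq a, sq (1 + a)]), if_neg (by omega), if_neg (by omega),
    if_neg (by omega), if_neg (by omega), if_neg (by simp), if_neg (fun h => h (Nat.mod_eq_zero_of_dvd hCG)),
    if_neg (fun h => h (Nat.mod_eq_zero_of_dvd hdG)), if_neg (fun h => h (Nat.mod_eq_zero_of_dvd hdG')),
    if_neg (by omega), if_neg (by omega), if_neg (by nlinarith), if_neg (by simp), if_neg (by simp)] at this
  by_contra hne
  rw [if_neg hne, decide_eq_true_eq] at this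
  omega

end Cfsg.Agent.Lib.FTThree
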