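import Cfsg.Agent.Lib.FTThree.Inv
import Cfsg.Agent.Lib.FTThree.Chars
import Cfsg.Agent.Lib.FTThree.Numeric
import Cfsg.Agent.Lib.FTThree.Inversion
import Cfsg.Agent.Lib.FTThree.Combi

/-!
# A simple group with a self-centralizing subgroup of order three has order 60 or 168
-/

set_option autoImplicit false
set_option linter.unusedSectionVars false
set_option linter.style.haveILetI false

namespace Cfsg.Agent.Lib.FTThree

open Subgroup
open Cfsg.Agent.Lib.Char

variable {G : Type*} [Group G] [Finite G] {x s : G}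

/-- Conjugate of a subgroup. -/
def cj (g : G) (M : Subgroup G) : Subgroup G := M.map (MulAut.conj g).toMonoidHom

theorem commute_conj (g y t : G) :
    g⁻¹ * y * g * t = t * (g⁻¹ * y * g) ↔ y * (g * t * g⁻¹) = g * t * g⁻¹ * y := by
  constructor
  · intro h
    calc y * (g * t * g⁻¹) = g * (g⁻¹ * y * g * t) * g⁻¹ := by group
      _ = g * (t * (g⁻¹ * y * g)) * g⁻¹ := by rw [h]
      _ = g * t * g⁻¹ * y := by group
  · intro h
    calc g⁻¹ * y * g * t = g⁻¹ * (y * (g * t * g⁻¹)) * g := by group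
      _ = g⁻¹ * (g * t * g⁻¹ * y) * g := by rw [h]
      _ = t * (g⁻¹ * y * g) := by group

theorem mem_cj {g y : G} {M : Subgroup G} : y ∈ cj g M ↔ g⁻¹ * y * g ∈ M := by
  constructor
  · rintro ⟨m, hm, rfl⟩
    simpa [mul_assoc] using hm
  · intro h
    exact ⟨_, h, by simp [mul_assoc]⟩

theorem cj_cj (g h : G) (M : Subgroup G) : cj g (cj h M) = cj (g * h) M := by
  ext y
  simp [mem_cj, mul_assoc]

theorem cj_of_mem {g : G} {M : Subgroup G} (h : g ∈ normalizer (M : Set G)) : cj g M = M := by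
  ext y
  rw [mem_cj, mem_normalizer_iff''.1 h y]

theorem mem_normalizer_cj {g y : G} {M : Subgroup G} (h : y ∈ normalizer (M : Set G)) :
    g * y * g⁻¹ ∈ normalizer (cj g M : Set G) := by
  rw [mem_normalizer_iff] at h ⊢
  intro z
  rw [mem_cj, mem_cj, h (g⁻¹ * z * g)]
  simp [mul_assoc]

theorem card_cj (g : G) (M : Subgroup G) : Nat.card (cj g M) = Nat.card M :=
  card_map_of_injective (K := M) (MulAut.conj g).injective

theorem cj_mono {g : G} {M N : Subgroup G} (h : M ≤ N) : cj g M ≤ cj g N := map_mono h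

theorem IsInv.cj_s (hs : s * x * s⁻¹ = x⁻¹) {M : Subgroup G} (hM : IsInv x M) : IsInv x (cj s M) := by
  refine ⟨?_, by rw [card_cj]; exact hM.2⟩
  have h := mem_normalizer_cj (g := s) (inv_mem hM.1)
  rwa [← conj_inv, hs, inv_inv] at h

theorem IsMaxInv.cj_s (hs : s * x * s⁻¹ = x⁻¹) {M : Subgroup G} (hM : IsMaxInv x M) : IsMaxInv x (cj s M) := by
  refine ⟨hM.1.cj_s hs, fun K hK hle => ?_⟩
  have hs' : s⁻¹ * x * s⁻¹⁻¹ = x⁻¹ := by
    calc s⁻¹ * x * s⁻¹⁻¹ = (s⁻¹ * (s * x * s⁻¹) * s)⁻¹ := by rw [hs]; group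
      _ = x⁻¹ := by group
  have h := hM.2 _ (hK.cj_s hs') (by
    intro m hm
    rw [mem_cj]
    exact hle ⟨m, hm, by simp⟩)
  rw [← h, cj_cj, mul_inv_cancel]
  exact (cj_of_mem (one_mem _)).symm

/-- Two invariant conjugate subgroups. -/
theorem eq_or_cj (hx : orderOf x = 3) (hC : centralizer ({x} : Set G) = zpowers x) (hs : s * x * s⁻¹ = x⁻¹)
    {M M' : Subgroup G} (hM : x ∈ normalizer (M : Set G)) (hM' : x ∈ normalizer (M' : Set G)) {g : G}
    (hg : cj g M = M') : M' = M ∨ M' = cj s M := by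
  haveI : Fact (Nat.Prime 3) := ⟨by norm_num⟩
  have hy : g * x * g⁻¹ ∈ normalizer (M' : Set G) := hg ▸ mem_normalizer_cj hM
  set H := normalizer (M' : Set G)
  have hxo : orderOf (⟨x, hM'⟩ : H) = 3 := by rw [orderOf_mk]; exact hx
  have hyo : orderOf (⟨_, hy⟩ : H) = 3 := by
    rw [orderOf_mk, ← hx]
    exact orderOf_injective (MulAut.conj g).toMonoidHom (MulAut.conj g).injective x
  obtain ⟨P, hP⟩ := SC.exists_sylow hxo (sub_centralizer hC hM')
  obtain ⟨Q, hQ⟩ := (IsPGroup.of_card (n := 1) (G := zpowers (⟨_, hy⟩ : H))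
    (by rw [Nat.card_zpowers, hyo, pow_one])).exists_le_sylow
  obtain ⟨c, hc⟩ := MulAction.exists_smul_eq H Q P
  have h1 : c * ⟨_, hy⟩ * c⁻¹ ∈ zpowers (⟨x, hM'⟩ : H) := by
    rw [← hP, ← hc, Transfer.mem_smul_sylow]
    simpa [mul_assoc] using hQ (mem_zpowers _)
  set u := (c : G) * g
  have hu : cj u M = M' := by rw [← cj_cj, hg, cj_of_mem c.2]
  have h2 : u * x * u⁻¹ ∈ zpowers x := by
    obtain ⟨k, hk⟩ := mem_zpowers_iff.1 h1
    refine mem_zpowers_iff.2 ⟨k, ?_⟩
    have h' := congrArg Subtype.val hk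
    simp only [coe_zpow, coe_mul, coe_inv] at h'
    rw [h']
    simp [u, mul_assoc]
  have hun : u ∈ normalizer (zpowers x : Set G) := by
    rw [mem_normalizer_iff_three hx hC hs]
    rcases (mem_zpowers_iff_three hx).1 h2 with e | e | e
    · rw [conj_eq_one_iff] at e; rw [e, orderOf_one] at hx; omega
    · exact Or.inl (hC ▸ mem_centralizer_singleton_iff.2 (mul_inv_eq_iff_eq_mul.1 e))
    · exact Or.inr (eq_mul_of_inverts hC hs e)
  have hX : ∀ v ∈ zpowers x, cj v M = M := fun v hv =>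
    cj_of_mem (zpowers_le.2 hM hv)
  rcases (mem_normalizer_iff_three hx hC hs).1 hun with h | h
  · exact Or.inl (hu.symm.trans (hX u h))
  · refine Or.inr ?_
    rw [← hu, show u = s * (s⁻¹ * u) by group, ← cj_cj, hX _ h]

/-- The central involutions of a subgroup. -/
def zInv (M : Subgroup G) : Set G := {z | z ∈ M ∧ orderOf z = 2 ∧ ∀ m ∈ M, Commute z m}

theorem zInv_sub (hx : orderOf x = 3) (hC : centralizer ({x} : Set G) = zpowers x) {M : Subgroup G}
    (hM : IsInv x M) {z : G} (hz : z ∈ zInv M) : z ∈ invSet x := by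
  obtain ⟨hzM, hz2, hzc⟩ := hz
  refine ⟨hz2, ?_⟩
  haveI : Fact (Nat.Prime 3) := ⟨by norm_num⟩
  have hn := mem_normalizer_iff.1 hM.1
  set z1 := x * z * x⁻¹ with hz1
  set z2 := x * z1 * x⁻¹ with hz2'
  have h1 : z1 ∈ M := (hn z).1 hzM
  have h2 : z2 ∈ M := (hn z1).1 h1
  have hcube := cube_eq_one hx
  have h30 : x * z2 * x⁻¹ = z := by
    rw [hz2', hz1]
    calc x * (x * (x * z * x⁻¹) * x⁻¹) * x⁻¹ = x ^ 3 * z * (x ^ 3)⁻¹ := by simp only [pow_three]; group
      _ = z := by rw [hcube]; group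
  have hfix : x * (z * z1 * z2) = z * z1 * z2 * x := by
    rw [← mul_inv_eq_iff_eq_mul]
    calc x * (z * z1 * z2) * x⁻¹ = z1 * z2 * (x * z2 * x⁻¹) := by
          rw [hz2', hz1]; group
      _ = z1 * z2 * z := by rw [h30]
      _ = z * z1 * z2 := by
          rw [mul_assoc z z1 z2, (hzc _ (mul_mem h1 h2)).eq]
  have hw : z * z1 * z2 = 1 := hM.eq_one hx hC (mul_mem (mul_mem hzM h1) h2) hfix
  refine orderOf_eq_prime ?_ fun h => ?_
  · calc (z * x) ^ 3 = z * z1 * z2 * x ^ 3 := by rw [hz2', hz1]; simp only [pow_three]; group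
      _ = 1 := by rw [hw, hcube, one_mul]
  · have : x = z⁻¹ := eq_inv_of_mul_eq_one_right h
    rw [this, orderOf_inv, hz2] at hx
    omega

theorem zInv_conj {M : Subgroup G} (hM : x ∈ normalizer (M : Set G)) {z : G} (hz : z ∈ zInv M) :
    x * z * x⁻¹ ∈ zInv M := by
  obtain ⟨hzM, hz2, hzc⟩ := hz
  refine ⟨(mem_normalizer_iff.1 hM z).1 hzM, ?_, fun m hm => ?_⟩
  · rw [← hz2]
    exact orderOf_injective (MulAut.conj x).toMonoidHom (MulAut.conj x).injective z
  · have h := (hzc _ ((mem_normalizer_iff''.1 hM m).1 hm)).map (MulAut.conj x).toMonoidHom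
    simpa [mul_assoc] using h

/-- Distinct maximal invariant subgroups have disjoint sets of central involutions. -/
theorem zInv_disjoint (hx : orderOf x = 3) (hC : centralizer ({x} : Set G) = zpowers x)
    {M M' : Subgroup G} (hM : IsMaxInv x M) (hM' : IsMaxInv x M') {z : G} (hz : z ∈ zInv M)
    (hz' : z ∈ zInv M') : M = M' := by
  set T : Set G := {y | ∃ v ∈ zpowers x, y = v * z * v⁻¹} with hT
  set K := centralizer T with hK
  have hle : ∀ L : Subgroup G, IsInv x L → z ∈ zInv L → L ≤ K := by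
    intro L hL hzL l hl
    rw [hK, mem_centralizer_iff]
    rintro y ⟨v, hv, rfl⟩
    rcases (mem_zpowers_iff_three hx).1 hv with e | e | e <;> rw [e]
    · simpa using (hzL.2.2 l hl).eq
    · exact ((zInv_conj hL.1 hzL).2.2 l hl).eq
    · have h := zInv_conj hL.1 (zInv_conj hL.1 hzL)
      have e2 : x * (x * z * x⁻¹) * x⁻¹ = x⁻¹ * z * x⁻¹⁻¹ := by
        rw [inv_inv]; nth_rw 3 [inv_eq_sq hx]
        rw [inv_eq_sq hx]
        calc x * (x * z * (x * x)) * (x * x) = x * x * z * (x * x * x) * x := by group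
          _ = x * x * z * x := by rw [← pow_three' x, cube_eq_one hx, mul_one]
      rw [e2] at h
      exact (h.2.2 l hl).eq
  have hKn : x ∈ normalizer (K : Set G) := by
    rw [mem_normalizer_iff]
    intro k
    simp only [hK, mem_centralizer_iff]
    constructor
    · rintro hk y ⟨v, hv, rfl⟩
      have := hk _ ⟨x⁻¹ * v, mul_mem (inv_mem (mem_zpowers x)) hv, rfl⟩
      calc v * z * v⁻¹ * (x * k * x⁻¹) = x * (x⁻¹ * v * z * (x⁻¹ * v)⁻¹ * k) * x⁻¹ := by group
        _ = x * (k * (x⁻¹ * v * z * (x⁻¹ * v)⁻¹)) * x⁻¹ := by rw [this]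
        _ = x * k * x⁻¹ * (v * z * v⁻¹) := by group
    · rintro hk y ⟨v, hv, rfl⟩
      have := hk _ ⟨x * v, mul_mem (mem_zpowers x) hv, rfl⟩
      calc v * z * v⁻¹ * k = x⁻¹ * (x * v * z * (x * v)⁻¹ * (x * k * x⁻¹)) * x := by group
        _ = x⁻¹ * (x * k * x⁻¹ * (x * v * z * (x * v)⁻¹)) * x := by rw [this]
        _ = k * (v * z * v⁻¹) := by group
  have hxK : x ∉ K := by
    intro h
    have h1 := mem_centralizer_iff.1 h _ ⟨1, one_mem _, rfl⟩
    simp only [one_mul, inv_one, mul_one] at h1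
    have := hM.1.eq_one hx hC hz.1 h1.symm
    rw [this] at hz
    have := hz.2.1
    rw [orderOf_one] at this
    omega
  have hKi : IsInv x K := ⟨hKn, not_dvd_of_not_mem hx hC hKn hxK⟩
  exact (hM.2 K hKi (hle M hM.1 hz)).symm.trans (hM'.2 K hKi (hle M' hM'.1 hz'))

theorem exists_zInv (hx : orderOf x = 3) (hC : centralizer ({x} : Set G) = zpowers x) {M : Subgroup G}
    (hM : IsInv x M) (h2 : 2 ∣ Nat.card M) : ∃ z, z ∈ zInv M := by
  haveI : Fact (Nat.Prime 2) := ⟨Nat.prime_two⟩
  obtain ⟨z, hz, hz2, hzc⟩ := CNGroup.exists_central_prime (hM.nilpotent hx hC) h2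
  exact ⟨z, hz, hz2, hzc⟩

theorem three_le_zInv (hx : orderOf x = 3) (hC : centralizer ({x} : Set G) = zpowers x) {M : Subgroup G}
    (hM : IsInv x M) {z : G} (hz : z ∈ zInv M) : 3 ≤ (zInv M).ncard := by
  classical
  have hne : z ≠ 1 := fun h => by have := hz.2.1; rw [h, orderOf_one] at this; omega
  have h1 := zInv_conj hM.1 hz
  have h2 := zInv_conj hM.1 h1
  have e1 : x * z * x⁻¹ ≠ z := fun h => hne (hM.eq_one hx hC hz.1 (mul_inv_eq_iff_eq_mul.1 h))
  have e2 : x * (x * z * x⁻¹) * x⁻¹ ≠ x * z * x⁻¹ := fun h =>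
    e1 ((MulAut.conj x).injective h)
  have e3 : x * (x * z * x⁻¹) * x⁻¹ ≠ z := by
    intro h
    apply e1
    have hcube := cube_eq_one hx
    calc x * z * x⁻¹ = x * (x * (x * z * x⁻¹) * x⁻¹) * x⁻¹ := by rw [h]
      _ = x ^ 3 * z * (x ^ 3)⁻¹ := by simp only [pow_three]; group
      _ = z := by rw [hcube]; group
  have hsub : (↑({z, x * z * x⁻¹, x * (x * z * x⁻¹) * x⁻¹} : Finset G) : Set G) ⊆ zInv M := by
    intro y hy
    simp only [Finset.coe_insert, Finset.coe_singleton, Set.mem_insert_iff, Set.mem_singleton_iff] at hy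
    rcases hy with rfl | rfl | rfl <;> assumption
  have := Set.ncard_le_ncard hsub (Set.toFinite _)
  rw [Set.ncard_coe_finset, Finset.card_eq_three.2 ⟨_, _, _, e1.symm, e3.symm, e2.symm, rfl⟩] at this
  exact this

/-- An element of `facSet` gives an element of an invariant subgroup. -/
theorem facSet_mem (hx : orderOf x = 3) (hC : centralizer ({x} : Set G) = zpowers x) {a : G}
    (ha : a ∈ facSet x) : ∃ K, IsInv x K ∧ x * a ∈ K := by
  obtain ⟨ha3, hb3⟩ := ha
  have hx3 := cube_eq_one hx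
  set u := x * a with hu
  have e1 : x⁻¹ * u = a := by rw [hu, inv_mul_cancel_left]
  have hb : a⁻¹ * x = u⁻¹ * (x * x) := by rw [hu]; group
  set u1 := x * u * x⁻¹ with hu1
  set u2 := x * u1 * x⁻¹ with hu2
  have h30 : x * u2 * x⁻¹ = u := by
    rw [hu2, hu1]
    calc x * (x * (x * u * x⁻¹) * x⁻¹) * x⁻¹ = x ^ 3 * u * (x ^ 3)⁻¹ := by simp only [pow_three]; group
      _ = u := by rw [hx3]; group
  have hA : u2 * u1 * u = 1 := by
    have h := cube_eq_one ha3
    rw [← e1] at h
    calc u2 * u1 * u = x ^ 3 * (x⁻¹ * u) ^ 3 := by rw [hu2, hu1]; simp only [pow_three]; group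
      _ = 1 := by rw [hx3, h, one_mul]
  have hB : u1 * u2 * u = 1 := by
    have h := cube_eq_one hb3
    rw [hb] at h
    have hx2 : x * x = x⁻¹ := (inv_eq_sq hx).symm
    rw [hx2] at h
    calc u1 * u2 * u = u1 * u2 * (x * u2 * x⁻¹) := by rw [h30]
      _ = ((u⁻¹ * x⁻¹) ^ 3)⁻¹ * (x ^ 3)⁻¹ := by
          rw [← inv_pow, mul_inv_rev, inv_inv, inv_inv]
          rw [hu2, hu1]; simp only [pow_three]; group
      _ = 1 := by rw [h, hx3]; group
  have hc12 : Commute u1 u2 := mul_right_cancel (hB.trans hA.symm)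
  have hcu : ∀ w, Commute u1 w → Commute u2 w → Commute u w := fun w h1 h2 => by
    rw [eq_inv_of_mul_eq_one_right hA]
    exact (h2.mul_left h1).inv_left
  have hcu1 : Commute u u1 := hcu u1 (Commute.refl _) hc12.symm
  have hu2' : u2 = (u * u1)⁻¹ := by
    rw [eq_inv_iff_mul_eq_one, hcu1.eq, ← mul_assoc]
    exact hA
  set A := closure ({u, u1} : Set G) with hA'
  have hmem : u ∈ A := subset_closure (by simp)
  have hn : x ∈ normalizer (A : Set G) := by
    have hle : A.map (MulAut.conj x).toMonoidHom ≤ A := by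
      rw [hA', MonoidHom.map_closure, closure_le]
      rintro _ ⟨w, hw, rfl⟩
      rcases hw with rfl | rfl
      · exact subset_closure (by simp [hu1])
      · show x * u1 * x⁻¹ ∈ A
        rw [← hu2, hu2']
        exact inv_mem (mul_mem hmem (subset_closure (by simp)))
    have heq : A.map (MulAut.conj x).toMonoidHom = A :=
      eq_of_le_of_card_ge hle (card_map_of_injective (K := A) (MulAut.conj x).injective).ge
    rw [mem_normalizer_iff]
    intro z
    constructor
    · intro hz; rw [← heq]; exact ⟨z, hz, rfl⟩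
    · intro hz
      rw [← heq] at hz
      obtain ⟨w, hw, hwz⟩ := hz
      exact (MulAut.conj x).injective hwz ▸ hw
  by_cases hu1' : u = 1
  · refine ⟨⊥, ⟨?_, by rw [card_bot]; norm_num⟩, hu1'⟩
    rw [mem_normalizer_iff]; simp
  refine ⟨A, ⟨hn, not_dvd_of_not_mem hx hC hn fun hxA => ?_⟩, hmem⟩
  have hAc : A ≤ centralizer ({u} : Set G) := by
    rw [hA', closure_le]
    rintro w (rfl | rfl)
    · exact mem_centralizer_singleton_iff.2 rfl
    · exact mem_centralizer_singleton_iff.2 hcu1.symm.eq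
  have h := mem_centralizer_singleton_iff.1 (hAc hxA)
  have hu' : u ∈ zpowers x := hC ▸ mem_centralizer_singleton_iff.2 h.symm
  rcases (mem_zpowers_iff_three hx).1 hu' with e | e | e
  · exact hu1' e
  · rw [e, inv_mul_cancel] at e1
    rw [← e1, orderOf_one] at ha3
    omega
  · rw [hb, e, inv_inv, ← mul_assoc, ← pow_three', hx3, orderOf_one] at hb3
    omega

theorem sub_one_le_card_union (hx : orderOf x = 3) (hC : centralizer ({x} : Set G) = zpowers x)
    (s : Finset (Subgroup G)) (hs : ∀ M, IsMaxInv x M → M ∈ s) :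
    Nat.card (facSet x) - 1 ≤ ∑ M ∈ s, (Nat.card M - 1) := by
  classical
  haveI := Fintype.ofFinite G
  set U := s.biUnion fun M => (Finset.univ.filter fun y : G => y ∈ M).erase 1 with hU
  have hsub : (Finset.univ.filter fun a => a ∈ facSet x).image (x * ·) ⊆ insert 1 U := by
    intro u hu
    obtain ⟨a, ha, rfl⟩ := Finset.mem_image.1 hu
    obtain ⟨K, hK, huK⟩ := facSet_mem hx hC (Finset.mem_filter.1 ha).2
    obtain ⟨M, hM, hKM⟩ := exists_isMaxInv hK
    rw [Finset.mem_insert]
    by_cases h : x * a = 1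
    · exact Or.inl h
    · exact Or.inr (Finset.mem_biUnion.2 ⟨M, hs M hM, Finset.mem_erase.2 ⟨h, by simpa using hKM huK⟩⟩)
  have h1 := Finset.card_le_card hsub
  rw [Finset.card_image_of_injective _ (mul_right_injective x), ← Fintype.card_subtype,
    ← Nat.card_eq_fintype_card] at h1
  have h2 : U.card ≤ ∑ M ∈ s, (Nat.card M - 1) := by
    refine Finset.card_biUnion_le.trans (Finset.sum_le_sum fun M _ => ?_)
    rw [Finset.card_erase_of_mem (by simp), ← Fintype.card_subtype, ← Nat.card_eq_fintype_card]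
  have h3 := Finset.card_insert_le 1 U
  have : Nat.card (facSet x) = Nat.card {a // a ∈ facSet x} := rfl
  omega

/-- The existence of a four-group, hence `4 ∣ |C(t)|`. -/
theorem four_dvd (hx : orderOf x = 3) (hC : centralizer ({x} : Set G) = zpowers x) {i : G}
    (hi : i ∈ invSet x) :
    4 ∣ Nat.card (centralizer ({i} : Set G)) ∧ ∃ K, IsInv x K ∧ i ∈ K := by
  obtain ⟨hi2, hi3⟩ := hi
  have hii : i * i = 1 := by rw [← pow_two, ← hi2, pow_orderOf_eq_one]
  -- `i = x u` with `u = x⁻¹ i`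
  have hfac : x⁻¹ * i ∈ facSet x := by
    have hinv : i⁻¹ = i := inv_eq_of_mul_eq_one_right hii
    have he : (i * x)⁻¹ = x⁻¹ * i := by rw [mul_inv_rev, hinv]
    refine ⟨?_, ?_⟩
    · rw [← he, orderOf_inv, hi3]
    · rw [mul_inv_rev, inv_inv, hinv]
      have : x⁻¹ * (i * x * x) * x⁻¹⁻¹ = (x⁻¹ * i) * (x * x * x) := by group
      rw [← orderOf_inv, show (i * x * x)⁻¹ = x * i by
        rw [mul_assoc, ← inv_eq_sq hx, mul_inv_rev, inv_inv, hinv]]
      rw [← hi3]
      have := orderOf_injective (MulAut.conj i).toMonoidHom (MulAut.conj i).injective (x * i)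
      simp only [MulEquiv.coe_toMonoidHom, MulAut.conj_apply] at this
      rw [← this, show i * (x * i) * i⁻¹ = i * x by group]
  obtain ⟨K, hK, hKm⟩ := facSet_mem hx hC hfac
  rw [mul_inv_cancel_left] at hKm
  refine ⟨?_, K, hK, hKm⟩
  set j := x * i * x⁻¹ with hj
  have hjK : j ∈ K := (mem_normalizer_iff.1 hK.1 i).1 hKm
  have hjj : j * j = 1 := by rw [hj]; simp [mul_assoc, ← mul_assoc i i, hii]
  have hne : j ≠ i := fun h => by
    have := hK.eq_one hx hC hKm (mul_inv_eq_iff_eq_mul.1 h)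
    rw [this, orderOf_one] at hi2; omega
  have hcomm : Commute i j := by
    have h := congrArg (fun t => t) (cube_eq_one hi3)
    have h1 : i * j * (x * j * x⁻¹) = 1 := by
      calc i * j * (x * j * x⁻¹) = (i * x) ^ 3 * (x ^ 3)⁻¹ := by rw [hj]; simp only [pow_three]; group
        _ = 1 := by rw [h, cube_eq_one hx]; group
    have h2 : i * j = (x * j * x⁻¹)⁻¹ := eq_inv_of_mul_eq_one_left h1
    have h3 : (i * j) * (i * j) = 1 := by
      rw [h2, ← mul_inv_rev, show x * j * x⁻¹ * (x * j * x⁻¹) = x * (j * j) * x⁻¹ by group, hjj]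
      group
    calc i * j = (i * j)⁻¹ := (inv_eq_of_mul_eq_one_right h3).symm
      _ = j * i := by rw [mul_inv_rev, inv_eq_of_mul_eq_one_right hii, inv_eq_of_mul_eq_one_right hjj]
  set C := centralizer ({i} : Set G)
  have hiC : i ∈ C := mem_centralizer_singleton_iff.2 rfl
  have hjC : j ∈ C := mem_centralizer_singleton_iff.2 hcomm.symm.eq
  have hi0 : i ≠ 1 := fun h => by rw [h, orderOf_one] at hi2; omega
  have hj2 : orderOf j = 2 := orderOf_eq_prime (by rw [pow_two, hjj]) fun h => hi0 (by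
    rw [hj, conj_eq_one_iff] at h; exact h)
  let f : zpowers i × zpowers j →* C :=
    MonoidHom.noncommCoprod (Subgroup.inclusion (zpowers_le.2 hiC)) (Subgroup.inclusion (zpowers_le.2 hjC))
      (fun a b => Subtype.ext (by
        obtain ⟨m, hm⟩ := mem_zpowers_iff.1 a.2
        obtain ⟨n, hn⟩ := mem_zpowers_iff.1 b.2
        show (a : G) * b = b * a
        rw [← hm, ← hn]; exact (hcomm.zpow_zpow m n).eq))
  have hf : Function.Injective f := by
    refine (injective_iff_map_eq_one f).2 fun p hp => ?_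
    have h : (p.1 : G) * (p.2 : G) = 1 := congrArg Subtype.val hp
    have hpp : ∀ {y : G}, orderOf y = 2 → ∀ w ∈ zpowers y, w = 1 ∨ w = y := fun {y} hy w hw => by
      classical
      rw [← mem_powers_iff_mem_zpowers, mem_powers_iff_mem_range_orderOf, hy] at hw
      simp only [Finset.mem_image, Finset.mem_range] at hw
      obtain ⟨k, hk, rfl⟩ := hw
      interval_cases k
      · exact Or.inl (pow_zero y)
      · exact Or.inr (pow_one y)
    rcases hpp hi2 _ p.1.2 with e | e <;> rcases hpp hj2 _ p.2.2 with e' | e' <;> rw [e, e'] at h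
    · exact Prod.ext (Subtype.ext e) (Subtype.ext e')
    · exact absurd (by simpa using h) (fun hj1 : j = 1 => by rw [hj1, orderOf_one] at hj2; omega)
    · exact absurd (by simpa using h) hi0
    · exact absurd ((inv_eq_of_mul_eq_one_right h).symm.trans (inv_eq_of_mul_eq_one_right hii)) hne
  have h4 : Nat.card f.range = 4 := by
    rw [← Nat.card_congr (MonoidHom.ofInjective hf).toEquiv, Nat.card_prod, Nat.card_zpowers, Nat.card_zpowers,
      hi2, hj2]
  exact h4 ▸ card_subgroup_dvd_card f.range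

variable [IsSimpleGroup G]

/-- Maximal invariant subgroups whose orders share an odd prime. -/
theorem eq_or_cj_of_common (hx : orderOf x = 3) (hC : centralizer ({x} : Set G) = zpowers x)
    (hs : s * x * s⁻¹ = x⁻¹) (hloc : Loc x) {p : ℕ} [hp : Fact p.Prime] (hp2 : p ≠ 2) {M M' : Subgroup G}
    (hM : IsMaxInv x M) (hM' : IsMaxInv x M') (h : p ∣ Nat.card M) (h' : p ∣ Nat.card M') :
    M' = M ∨ M' = cj s M := by
  obtain ⟨R, hRM, hRp, hRne, hxR, -, Q, hQ⟩ := part_sylow hx hC hloc hp2 hM h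
  obtain ⟨R', hRM', hRp', hRne', hxR', -, Q', hQ'⟩ := part_sylow hx hC hloc hp2 hM' h'
  obtain ⟨g, hg⟩ := MulAction.exists_smul_eq G Q Q'
  have hcj : cj g R = R' := by
    rw [← hQ, ← hQ', ← hg]
    ext y
    rw [mem_cj, Transfer.mem_smul_sylow]
  rcases eq_or_cj hx hC hs hxR hxR' hcj with e | e
  · exact Or.inl (eq_of_le hx hC hloc hp2 hRp' hRne' hxR' hM' hM hRM' (e ▸ hRM))
  · exact Or.inr (eq_of_le hx hC hloc hp2 hRp' hRne' hxR' hM' (hM.cj_s hs) hRM' (e ▸ cj_mono hRM))

theorem order_of_simple (hnc : ¬ IsMulCommutative G) (hx : orderOf x = 3)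
    (hC : centralizer ({x} : Set G) = zpowers x) (hs : s * x * s⁻¹ = x⁻¹) (hs2 : orderOf s = 2)
    (hloc : Loc x) :
    (Nat.card G = 60 ∨ Nat.card G = 168) ∧ ∃ V, IsInv x V ∧ 2 ∣ Nat.card V := by
  classical
  haveI := Fintype.ofFinite G
  haveI := Fintype.ofFinite (Subgroup G)
  obtain ⟨d, a, F⟩ := exists_facts hnc hx hC hs hs2
  set n := Nat.card G with hn
  set C := Nat.card (centralizer ({s} : Set G)) with hCdef
  set I := Nat.card (invSet x) with hIdef
  set N := Nat.card (facSet x) with hNdef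
  have hCpos : 0 < C := Nat.card_pos
  have hd := F.four_le
  have hD : (0 : ℤ) < (d : ℤ) - a := by have := F.upper; omega
  -- some involution lies in `invSet`
  have hI0 : I ≠ 0 := by
    intro h
    have e := F.inv_count
    rw [← hIdef, h, Nat.cast_zero, zero_mul, eq_comm, mul_eq_zero] at e
    rcases e with e | e
    · simp at e; try omega
    · have h1 := F.lower
      have h2 : (4 : ℤ) ≤ d := by exact_mod_cast hd
      nlinarith
  obtain ⟨⟨i, hi⟩⟩ := (Nat.card_ne_zero.1 hI0).1
  have hcent : ∀ t : G, orderOf t = 2 → Nat.card (centralizer ({t} : Set G)) = C := by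
    intro t ht
    obtain ⟨g, hg⟩ := isConj_iff.1 (F.involutions_conj t ht)
    have hm : (centralizer ({t} : Set G)).map (MulAut.conj g).toMonoidHom = centralizer ({s} : Set G) := by
      ext y
      rw [mem_centralizer_singleton_iff, mem_map_equiv, mem_centralizer_singleton_iff,
        MulAut.conj_symm_apply, ← hg]
      constructor
      · intro h
        calc y * (g * t * g⁻¹) = g * (g⁻¹ * y * g * t) * g⁻¹ := by group
          _ = g * (t * (g⁻¹ * y * g)) * g⁻¹ := by rw [h]
          _ = g * t * g⁻¹ * y := by group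
      · intro h
        calc g⁻¹ * y * g * t = g⁻¹ * (y * (g * t * g⁻¹)) * g := by group
          _ = g⁻¹ * (g * t * g⁻¹ * y) * g := by rw [h]
          _ = t * (g⁻¹ * y * g) := by group
    rw [hCdef, ← hm, card_map_of_injective (K := centralizer ({t} : Set G)) (MulAut.conj g).injective]
  obtain ⟨h4i, K0, hK0, hiK0⟩ := four_dvd hx hC hi
  rw [hcent i hi.1] at h4i
  refine ⟨?_, K0, hK0, hi.1 ▸ K0.orderOf_dvd_natCard hiK0⟩
  have hC3 : ¬ 3 ∣ C := by
    rw [hCdef]
    haveI : Fact (Nat.Prime 3) := ⟨by norm_num⟩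
    intro h3
    obtain ⟨⟨y, hy⟩, hy3⟩ := exists_prime_orderOf_dvd_card' 3 h3
    rw [orderOf_mk] at hy3
    obtain ⟨g, hg⟩ := isConj_iff.1 (isConj_of_orderOf_three hx hC hs hy3)
    have hc : g * s * g⁻¹ ∈ zpowers x := by
      rw [← hC, mem_centralizer_singleton_iff, ← hg]
      calc g * s * g⁻¹ * (g * y * g⁻¹) = g * (s * y) * g⁻¹ := by group
        _ = g * (y * s) * g⁻¹ := by rw [mem_centralizer_singleton_iff.1 hy]
        _ = g * y * g⁻¹ * (g * s * g⁻¹) := by group
    have ho : orderOf (g * s * g⁻¹) = 2 := by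
      rw [← hs2]; exact orderOf_injective (MulAut.conj g).toMonoidHom (MulAut.conj g).injective s
    have := orderOf_dvd_natCard (zpowers x) hc
    rw [ho, Nat.card_zpowers, hx] at this
    omega
  have hCn : C ∣ n := card_subgroup_dvd_card _
  have h12 : 12 ∣ n := by
    have h3 : 3 ∣ n := hx ▸ orderOf_dvd_natCard x
    have h4 : 4 ∣ n := h4i.trans hCn
    exact Nat.Coprime.mul_dvd_of_dvd_of_dvd (by norm_num : Nat.Coprime 4 3) h4 h3
  set L := Finset.univ.filter fun M : Subgroup G => IsMaxInv x M with hL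
  set E := L.filter fun M : Subgroup G => 2 ∣ Nat.card M with hE
  set O := L.filter fun M : Subgroup G => ¬ 2 ∣ Nat.card M ∧ Nat.card M ≠ 1 with hO
  have hsum : N - 1 ≤ ∑ M ∈ E, (Nat.card M - 1) + ∑ M ∈ O, (Nat.card M - 1) := by
    refine (sub_one_le_card_union hx hC L fun M hM => by simp [hL, hM]).trans (le_of_eq ?_)
    rw [hE, hO, ← Finset.sum_filter_add_sum_filter_not L (fun M : Subgroup G => 2 ∣ Nat.card M)]
    congr 1
    symm
    refine Finset.sum_subset (fun M hM => ?_) fun M hM hM' => ?_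
    · simp only [Finset.mem_filter] at hM ⊢
      exact ⟨hM.1, hM.2.1⟩
    · simp only [Finset.mem_filter] at hM hM'
      have : Nat.card M = 1 := by tauto
      omega
  -- even members
  have hEle : ∑ M ∈ E, (Nat.card M - 1) ≤ evenBound C I := by
    have hmem : ∀ M ∈ E, IsMaxInv x M ∧ 2 ∣ Nat.card M := fun M hM => by
      simpa [hE, hL] using hM
    have hdvdC : ∀ M ∈ E, Nat.card M ∣ C ∧ (Nat.card M = C → ∃ z, orderOf z = 2 ∧ centralizer ({z} : Set G) = M) := by
      intro M hM
      obtain ⟨hMm, hM2⟩ := hmem M hM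
      obtain ⟨z, hz⟩ := exists_zInv hx hC hMm.1 hM2
      have hle : M ≤ centralizer ({z} : Set G) := fun m hm =>
        mem_centralizer_singleton_iff.2 (hz.2.2 m hm).symm.eq
      refine ⟨hcent z hz.2.1 ▸ card_dvd_of_le hle, fun he => ⟨z, hz.2.1, ?_⟩⟩
      exact (eq_of_le_of_card_ge hle (by rw [hcent z hz.2.1, he])).symm
    set E1 := E.filter fun M : Subgroup G => Nat.card M = C with hE1
    set E2 := E.filter fun M : Subgroup G => ¬ Nat.card M = C with hE2
    rw [← Finset.sum_filter_add_sum_filter_not E (fun M : Subgroup G => Nat.card M = C), ← hE1, ← hE2, evenBound]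
    refine Nat.add_le_add ?_ ?_
    · rcases E1.eq_empty_or_nonempty with he | ⟨M0, hM0⟩
      · rw [he, Finset.sum_empty]; exact Nat.zero_le _
      obtain ⟨hM0E, hM0C⟩ := Finset.mem_filter.1 hM0
      have hC1 : C % 3 = 1 := hM0C ▸ (hmem M0 hM0E).1.1.mod_three hx hC
      rw [if_pos hC1]
      have hsub : E1 ⊆ {M0, cj s M0} := by
        intro M hM
        obtain ⟨hME, hMC⟩ := Finset.mem_filter.1 hM
        obtain ⟨z0, hz0, e0⟩ := (hdvdC M0 hM0E).2 hM0C
        obtain ⟨z, hz, e⟩ := (hdvdC M hME).2 hMC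
        obtain ⟨g, hg⟩ := isConj_iff.1 ((F.involutions_conj z0 hz0).trans (F.involutions_conj z hz).symm)
        have hcj : cj g M0 = M := by
          ext y
          rw [mem_cj, ← e0, ← e, mem_centralizer_singleton_iff, mem_centralizer_singleton_iff, ← hg]
          constructor
          · intro h
            calc y * (g * z0 * g⁻¹) = g * (g⁻¹ * y * g * z0) * g⁻¹ := by group
              _ = g * (z0 * (g⁻¹ * y * g)) * g⁻¹ := by rw [h]
              _ = g * z0 * g⁻¹ * y := by group
          · intro h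
            calc g⁻¹ * y * g * z0 = g⁻¹ * (y * (g * z0 * g⁻¹)) * g := by group
              _ = g⁻¹ * (g * z0 * g⁻¹ * y) * g := by rw [h]
              _ = z0 * (g⁻¹ * y * g) := by group
        rcases eq_or_cj hx hC hs (hmem M0 hM0E).1.1.1 (hmem M hME).1.1.1 hcj with e' | e' <;> simp [e']
      calc ∑ M ∈ E1, (Nat.card M - 1) = E1.card * (C - 1) := by
            rw [Finset.sum_congr rfl fun M hM => by rw [(Finset.mem_filter.1 hM).2], Finset.sum_const,
              smul_eq_mul]
        _ ≤ 2 * (C - 1) := Nat.mul_le_mul_right _ ((Finset.card_le_card hsub).trans Finset.card_le_two)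
    · have hcard : 3 * E.card ≤ I := by
        have hdis : (↑E : Set (Subgroup G)).PairwiseDisjoint fun M => (zInv M).toFinset := by
          intro M hM M' hM' hne
          simp only [Function.onFun]
          rw [Finset.disjoint_left]
          intro z hz hz'
          exact hne (zInv_disjoint hx hC (hmem M hM).1 (hmem M' hM').1 (Set.mem_toFinset.1 hz)
            (Set.mem_toFinset.1 hz'))
        have h1 : (E.biUnion fun M => (zInv M).toFinset).card ≤ I := by
          rw [hIdef, Nat.card_coe_set_eq, Set.ncard_eq_toFinset_card']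
          refine Finset.card_le_card fun z hz => ?_
          obtain ⟨M, hM, hzM⟩ := Finset.mem_biUnion.1 hz
          exact Set.mem_toFinset.2 (zInv_sub hx hC (hmem M hM).1.1 (Set.mem_toFinset.1 hzM))
        rw [Finset.card_biUnion hdis] at h1
        refine le_trans ?_ h1
        rw [mul_comm]
        suffices h : ∀ M ∈ E, 3 ≤ (zInv M).toFinset.card from
          (smul_eq_mul E.card 3).symm.trans_le (Finset.card_nsmul_le_sum E _ 3 h)
        intro M hM
        obtain ⟨z, hz⟩ := exists_zInv hx hC (hmem M hM).1.1 (hmem M hM).2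
        rw [← Set.ncard_eq_toFinset_card']
        exact three_le_zInv hx hC (hmem M hM).1.1 hz
      calc ∑ M ∈ E2, (Nat.card M - 1) ≤ E2.card * (evenMax C - 1) := by
            refine Finset.sum_le_card_nsmul _ _ _ fun M hM => ?_
            obtain ⟨hME, hMC⟩ := Finset.mem_filter.1 hM
            refine Nat.sub_le_sub_right ?_ 1
            have hd' := (hdvdC M hME).1
            have hlt : Nat.card M < C := lt_of_le_of_ne (Nat.le_of_dvd hCpos hd') hMC
            exact Finset.le_sup (f := id) (Finset.mem_filter.2 ⟨Finset.mem_range.2 hlt,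
              Nat.mod_eq_zero_of_dvd (hmem M hME).2, (hmem M hME).1.1.mod_three hx hC,
              Nat.mod_eq_zero_of_dvd hd'⟩)
        _ ≤ I / 3 * (evenMax C - 1) := by
            refine Nat.mul_le_mul_right _ ?_
            have := Finset.card_filter_le E (fun M : Subgroup G => ¬ Nat.card M = C)
            rw [← hE2] at this
            omega
  -- odd members
  have hOmem : ∀ M ∈ O, IsMaxInv x M ∧ ¬ 2 ∣ Nat.card M ∧ Nat.card M ≠ 1 := fun M hM => by
    simpa [hO, hL] using hM
  have hprime : ∀ M ∈ O, ∀ M' ∈ O, ¬ Nat.Coprime (Nat.card M) (Nat.card M') → M' = M ∨ M' = cj s M := by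
    intro M hM M' hM' hco
    obtain ⟨p, hp, hp1, hp2⟩ := Nat.Prime.not_coprime_iff_dvd.1 hco
    haveI := Fact.mk hp
    exact eq_or_cj_of_common hx hC hs hloc (fun e => (hOmem M hM).2.1 (e ▸ hp1)) (hOmem M hM).1
      (hOmem M' hM').1 hp1 hp2
  have hfix : ∀ M ∈ O, cj s M = M →
      ∃ c, c ∣ Nat.card M ∧ c ∣ C ∧ Nat.card M ≤ c * c := by
    intro M hM hsM
    obtain ⟨hMm, hModd, -⟩ := hOmem M hM
    haveI := hMm.1.nilpotent hx hC
    have hsn : s ∈ normalizer (M : Set G) := by
      rw [mem_normalizer_iff'']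
      intro y
      rw [← mem_cj, hsM]
    have hx1 := cube_eq_one hx
    have htn : s * x ∈ normalizer (M : Set G) := mul_mem hsn hMm.1.1
    have hs2' : ∀ y : G, s * (s * y * s⁻¹) * s⁻¹ = y := fun y => by
      have : s * s = 1 := by rw [← pow_two, ← hs2, pow_orderOf_eq_one]
      calc s * (s * y * s⁻¹) * s⁻¹ = s * s * y * (s * s)⁻¹ := by group
        _ = y := by rw [this]; group
    have ht2 : (s * x) * (s * x) = 1 := by
      rw [← pow_two, ← orderOf_inv_mul hx hs hs2 (mem_zpowers x), pow_orderOf_eq_one]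
    let φ : M ≃* M :=
      { toFun := fun m => ⟨s * m * s⁻¹, (mem_normalizer_iff.1 hsn m).1 m.2⟩
        invFun := fun m => ⟨s * m * s⁻¹, (mem_normalizer_iff.1 hsn m).1 m.2⟩
        left_inv := fun m => Subtype.ext (hs2' m)
        right_inv := fun m => Subtype.ext (hs2' m)
        map_mul' := fun m m' => Subtype.ext (by simp [mul_assoc]) }
    have ht2' : ∀ y : G, s * x * (s * x * y * (s * x)⁻¹) * (s * x)⁻¹ = y := fun y => by
      calc s * x * (s * x * y * (s * x)⁻¹) * (s * x)⁻¹ = (s * x * (s * x)) * y * (s * x * (s * x))⁻¹ := by group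
        _ = y := by rw [ht2]; group
    let ψ : M ≃* M :=
      { toFun := fun m => ⟨s * x * m * (s * x)⁻¹, (mem_normalizer_iff.1 htn m).1 m.2⟩
        invFun := fun m => ⟨s * x * m * (s * x)⁻¹, (mem_normalizer_iff.1 htn m).1 m.2⟩
        left_inv := fun m => Subtype.ext (ht2' m)
        right_inv := fun m => Subtype.ext (ht2' m)
        map_mul' := fun m m' => Subtype.ext (by simp [mul_assoc]) }
    have h := card_le_fix φ ψ (fun m => Subtype.ext (hs2' m)) (fun m => Subtype.ext (ht2' m))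
      (fun m hm => Subtype.ext (hMm.1.eq_one hx hC m.2 (by
        have h' : s * (s * x * (m : G) * (s * x)⁻¹) * s⁻¹ = m := congrArg Subtype.val hm
        have e : s * (s * x * (m : G) * (s * x)⁻¹) * s⁻¹ = (s * s) * (x * m * x⁻¹) * (s * s)⁻¹ := by group
        rw [e, show s * s = 1 by rw [← pow_two, ← hs2, pow_orderOf_eq_one], one_mul, inv_one, mul_one] at h'
        exact mul_inv_eq_iff_eq_mul.1 h')))
      (Nat.odd_iff.2 (by omega))
    have hφc : ∀ (t : G) (ht : t ∈ normalizer (M : Set G)) ,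
        Nat.card {m : M // t * (m : G) * t⁻¹ = m} = Nat.card ↥(M ⊓ centralizer ({t} : Set G)) := by
      intro t _
      exact Nat.card_congr {
        toFun := fun m => ⟨m.1, m.1.2, mem_centralizer_singleton_iff.2
          (mul_inv_eq_iff_eq_mul.1 m.2).symm⟩
        invFun := fun y => ⟨⟨y, y.2.1⟩, mul_inv_eq_iff_eq_mul.2 (mem_centralizer_singleton_iff.1 y.2.2).symm⟩
        left_inv := fun m => rfl
        right_inv := fun y => rfl }
    have h1 : Nat.card {m : M // φ m = m} = Nat.card ↥(M ⊓ centralizer ({s} : Set G)) :=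
      (Nat.card_congr (Equiv.subtypeEquivRight fun m => Subtype.ext_iff)).trans (hφc s hsn)
    have h2 : Nat.card {m : M // ψ m = m} = Nat.card ↥(M ⊓ centralizer ({s} : Set G)) := by
      rw [(Nat.card_congr (Equiv.subtypeEquivRight fun m => Subtype.ext_iff)).trans (hφc (s * x) htn)]
      obtain ⟨g, hg⟩ : ∃ g ∈ normalizer (M : Set G), g * (s * x) * g⁻¹ = s := by
        refine ⟨x⁻¹, inv_mem hMm.1.1, ?_⟩
        have h' : s * x = x⁻¹ * s := by rw [← hs]; group
        have hxx : x⁻¹ * x⁻¹ = x := by rw [← mul_inv_rev, ← inv_eq_sq hx, inv_inv]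
        calc x⁻¹ * (s * x) * x⁻¹⁻¹ = x⁻¹ * (x⁻¹ * s) * x := by rw [h', inv_inv]
          _ = x⁻¹ * x⁻¹ * (s * x) := by group
          _ = x * (x⁻¹ * s) := by rw [hxx, h']
          _ = s := mul_inv_cancel_left x s
      have e : (M ⊓ centralizer ({s * x} : Set G)).map (MulAut.conj g).toMonoidHom =
          M ⊓ centralizer ({s} : Set G) := by
        ext y
        rw [mem_map_equiv, mem_inf, mem_inf, MulAut.conj_symm_apply, ← mem_normalizer_iff''.1 hg.1,
          mem_centralizer_singleton_iff, mem_centralizer_singleton_iff]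
        refine and_congr_right fun _ => ?_
        rw [commute_conj, hg.2]
      rw [← e, card_map_of_injective (K := M ⊓ centralizer ({s * x} : Set G)) (MulAut.conj g).injective]
    rw [h1, h2] at h
    exact ⟨_, card_dvd_of_le inf_le_left, card_dvd_of_le inf_le_right, h⟩
  have hpair : ∀ M ∈ O, cj s M ≠ M → 3 * Nat.card M ^ 2 ≤ n := by
    intro M hM hsM
    obtain ⟨hMm, hModd, -⟩ := hOmem M hM
    have hM' := hMm.cj_s hs
    have hinf : M ⊓ cj s M = ⊥ := by
      by_contra hne
      obtain ⟨p, hp, hpd⟩ := Nat.exists_prime_and_dvd (fun h => hne (eq_bot_of_card_eq _ h))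
      haveI := Fact.mk hp
      set D := M ⊓ cj s M
      have hDx : x ∈ normalizer (D : Set G) := by
        rw [mem_normalizer_iff]
        intro z
        simp only [D, mem_inf]
        exact and_congr (mem_normalizer_iff.1 hMm.1.1 z) (mem_normalizer_iff.1 hM'.1.1 z)
      obtain ⟨P, hPD, hPp, -, hPn, hPc⟩ := exists_part
        ((isInv_of_le hx hMm.1 inf_le_left hDx).nilpotent hx hC) p
      have hPne : P ≠ ⊥ := by
        rintro rfl
        rw [card_bot] at hPc
        have := hp.factorization_pos_of_dvd Nat.card_pos.ne' hpd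
        exact (Nat.one_lt_pow this.ne' hp.one_lt).ne hPc
      exact hsM (eq_of_le hx hC hloc (fun e => hModd (e ▸ hpd.trans (card_dvd_of_le inf_le_left))) hPp hPne
        (hPn hDx) hM' hMm (hPD.trans inf_le_right) (hPD.trans inf_le_left))
    let f : zpowers x × M × cj s M → G := fun q => (q.1 : G) * (q.2.1 : G) * (q.2.2 : G)
    have hf : Function.Injective f := by
      rintro ⟨u, m, k⟩ ⟨u', m', k'⟩ h
      simp only [f] at h
      have h1 : ((u' : G)⁻¹ * u) * m = m' * (k' : G) * (k : G)⁻¹ := by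
        calc ((u' : G)⁻¹ * u) * m = (u' : G)⁻¹ * ((u : G) * m * k) * (k : G)⁻¹ := by group
          _ = _ := by rw [h]; group
      have hv : (u' : G)⁻¹ * u ∈ zpowers x := mul_mem (inv_mem u'.2) u.2
      rcases (mem_zpowers_iff_three hx).1 hv with e | e | e
      · have hu : u' = u := Subtype.ext (inv_mul_eq_one.1 e)
        rw [e, one_mul] at h1
        have h2 : (m' : G)⁻¹ * m = (k' : G) * (k : G)⁻¹ := by rw [h1]; group
        have h3 : (m' : G)⁻¹ * m ∈ M ⊓ cj s M :=
          mem_inf.2 ⟨M.mul_mem (M.inv_mem m'.2) m.2, h2 ▸ (cj s M).mul_mem k'.2 ((cj s M).inv_mem k.2)⟩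
        rw [hinf, mem_bot] at h3
        refine Prod.ext hu.symm (Prod.ext (Subtype.ext (inv_mul_eq_one.1 h3).symm) (Subtype.ext ?_))
        rw [h3, eq_comm, mul_inv_eq_one] at h2
        exact h2.symm
      all_goals
        exfalso
        -- an element outside `M` of a coset of order three cannot be in a group of order prime to three
        set v := (u' : G)⁻¹ * u with hv'
        have hk : (m' : G)⁻¹ * (v * m) ∈ cj s M := by
          rw [show (m' : G)⁻¹ * (v * m) = (k' : G) * (k : G)⁻¹ by rw [h1]; group]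
          exact mul_mem k'.2 (inv_mem k.2)
        set H := normalizer (M : Set G)
        have hMH : M ≤ H := le_normalizer
        have hvH : v ∈ H := zpowers_le.2 hMm.1.1 hv
        let q : H →* H ⧸ M.subgroupOf H := QuotientGroup.mk' _
        let w : H := ⟨(m' : G)⁻¹ * (v * m), mul_mem (inv_mem (hMH m'.2)) (mul_mem hvH (hMH m.2))⟩
        have hone : ∀ y : H, (y : G) ∈ M → q y = 1 := fun y hy => (QuotientGroup.eq_one_iff _).2 hy
        have hqw : q w = q ⟨v, hvH⟩ := by
          have : w = ⟨(m' : G)⁻¹, inv_mem (hMH m'.2)⟩ * ⟨v, hvH⟩ * ⟨m, hMH m.2⟩ :=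
            Subtype.ext (mul_assoc _ _ _).symm
          rw [this, map_mul, map_mul, hone ⟨(m' : G)⁻¹, _⟩ (inv_mem m'.2), hone ⟨(m : G), _⟩ m.2, one_mul, mul_one]
        have hvne : v ∉ M := by
          intro hvM
          have := hMm.1.eq_one hx hC hvM (by
            obtain ⟨k, hk⟩ := mem_zpowers_iff.1 hv
            rw [← hk]; exact (Commute.self_zpow x k).eq)
          rw [e] at this
          first
            | (rw [this, orderOf_one] at hx; omega)
            | (rw [inv_eq_one] at this; rw [this, orderOf_one] at hx; omega)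
        have hd1 : orderOf (q ⟨v, hvH⟩) ∣ Nat.card (cj s M) := by
          rw [← hqw]
          refine (orderOf_map_dvd q w).trans ?_
          rw [← orderOf_coe]
          exact (cj s M).orderOf_dvd_natCard hk
        have hd2 : orderOf (q ⟨v, hvH⟩) ∣ 3 := by
          refine (orderOf_map_dvd q _).trans ?_
          rw [orderOf_mk]
          have := orderOf_dvd_natCard (zpowers x) hv
          rwa [Nat.card_zpowers, hx] at this
        rw [card_cj] at hd1
        rcases (Nat.dvd_prime (by norm_num : Nat.Prime 3)).1 hd2 with e3 | e3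
        · exact hvne ((QuotientGroup.eq_one_iff (⟨v, hvH⟩ : H)).1 (orderOf_eq_one_iff.1 e3))
        · exact hMm.1.2 (e3 ▸ hd1)
    have := Nat.card_le_card_of_injective f hf
    rw [Nat.card_prod, Nat.card_prod, Nat.card_zpowers, hx, card_cj] at this
    rw [pow_two]
    exact this
  set O6 := O.filter fun M => cj s M = M with hO6
  set O3 := O.filter fun M => ¬ cj s M = M with hO3
  have hsplit : ∑ M ∈ O, (Nat.card M - 1) = ∑ M ∈ O6, (Nat.card M - 1) + ∑ M ∈ O3, (Nat.card M - 1) :=
    (Finset.sum_filter_add_sum_filter_not O _ _).symm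
  have h6 : 16 * (∑ M ∈ O6, (Nat.card M - 1) + 1) ≤ C ^ 2 := by
    have hm : ∀ M ∈ O6, M ∈ O ∧ cj s M = M := fun M hM => by simpa [hO6] using hM
    let c : Subgroup G → ℕ := fun M =>
      if h : M ∈ O ∧ cj s M = M then (hfix M h.1 h.2).choose else 1
    have hc : ∀ M ∈ O6, c M ∣ Nat.card M ∧ c M ∣ C ∧ Nat.card M ≤ c M * c M := fun M hM => by
      simp only [c, dif_pos (hm M hM)]
      exact (hfix M (hm M hM).1 (hm M hM).2).choose_spec
    have hodd : ∀ M ∈ O6, Nat.Coprime 4 (c M) := fun M hM => by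
      have : ¬ 2 ∣ c M := fun h => (hOmem M (hm M hM).1).2.1 (h.trans (hc M hM).1)
      exact (Nat.Coprime.pow_left 2 ((Nat.Prime.coprime_iff_not_dvd Nat.prime_two).2 this))
    have hcop : (↑O6 : Set (Subgroup G)).Pairwise fun M M' => Nat.Coprime (c M) (c M') := by
      intro M hM M' hM' hne
      refine Nat.Coprime.of_dvd (hc M hM).1 (hc M' hM').1 ?_
      by_contra hco
      rcases hprime M (hm M hM).1 M' (hm M' hM').1 hco with e | e
      · exact hne e.symm
      · exact hne (e.trans (hm M hM).2).symm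
    have h4 : 4 * ∏ M ∈ O6, c M ∣ C :=
      Nat.Coprime.mul_dvd_of_dvd_of_dvd (Nat.Coprime.prod_right hodd) h4i
        (Finset.prod_dvd_of_isRelPrime (fun M hM M' hM' hne => Nat.coprime_iff_isRelPrime.1 (hcop hM hM' hne))
          fun M hM => (hc M hM).2.1)
    have h1 := sum_sub_one_le O6 (fun M : Subgroup G => Nat.card M) fun M _ => Nat.card_pos
    have h2 : ∏ M ∈ O6, Nat.card M ≤ (∏ M ∈ O6, c M) ^ 2 := by
      rw [← Finset.prod_pow]
      exact Finset.prod_le_prod' fun M hM => by rw [pow_two]; exact (hc M hM).2.2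
    have h3 := Nat.pow_le_pow_left (Nat.le_of_dvd hCpos h4) 2
    rw [mul_pow] at h3
    omega
  have hfib : ∀ (T : Finset (Subgroup G)), T ⊆ O → ∀ b, (T.filter fun M : Subgroup G => Nat.card M = b).card ≤ 2 := by
    intro T hT b
    rcases (T.filter fun M : Subgroup G => Nat.card M = b).eq_empty_or_nonempty with he | ⟨M0, hM0⟩
    · rw [he]; simp
    refine le_trans (Finset.card_le_card (t := {M0, cj s M0}) fun M hM => ?_) Finset.card_le_two
    rw [Finset.mem_filter] at hM hM0
    rcases hprime M0 (hT hM0.1) M (hT hM.1) (by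
      rw [hM0.2, hM.2, Nat.coprime_self]
      exact hM0.2 ▸ (hOmem M0 (hT hM0.1)).2.2) with e | e <;> simp [e]
  have hgroup : ∀ (T : Finset (Subgroup G)), T ⊆ O →
      ∑ M ∈ T, (Nat.card M - 1) ≤ 2 * ∑ b ∈ T.image (fun M : Subgroup G => Nat.card M), (b - 1) := by
    intro T hT
    rw [Finset.mul_sum, ← Finset.sum_fiberwise_of_maps_to
      (g := fun M : Subgroup G => Nat.card M) (fun (M : Subgroup G) (hM : M ∈ T) => Finset.mem_image_of_mem (fun M : Subgroup G => Nat.card M) hM)]
    refine Finset.sum_le_sum fun b _ => ?_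
    rw [Finset.sum_congr rfl fun M hM => by rw [(Finset.mem_filter.1 hM).2], Finset.sum_const, smul_eq_mul]
    exact Nat.mul_le_mul_right _ (hfib T hT b)
  have hcoprime : ∀ b ∈ O.image (fun M : Subgroup G => Nat.card M),
      ∀ b' ∈ O.image (fun M : Subgroup G => Nat.card M), b ≠ b' → Nat.Coprime b b' := by
    intro b hb b' hb' hne
    obtain ⟨M, hM, rfl⟩ := Finset.mem_image.1 hb
    obtain ⟨M', hM', rfl⟩ := Finset.mem_image.1 hb'
    by_contra hco
    rcases hprime M hM M' hM' hco with e | e <;> rw [e] at hne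
    · exact hne rfl
    · exact hne (card_cj s M).symm
  have h3 : 4 * (∑ M ∈ O3, (Nat.card M - 1)) ^ 2 ≤ 27 * n := by
    set B := O3.image fun M : Subgroup G => Nat.card M with hB
    have hBO : ∀ b ∈ B, b ∈ O.image (fun M : Subgroup G => Nat.card M) := fun b hb =>
      Finset.image_subset_image (Finset.filter_subset _ _) hb
    have hb : ∀ b ∈ B, 1 ≤ b ∧ 3 * b ^ 2 ≤ n ∧ b ∣ n ∧ Nat.Coprime 12 b := by
      intro b hb
      obtain ⟨M, hM, rfl⟩ := Finset.mem_image.1 hb
      obtain ⟨hMO, hns⟩ := Finset.mem_filter.1 hM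
      refine ⟨Nat.card_pos, hpair M hMO hns, card_subgroup_dvd_card M, ?_⟩
      have h1 : Nat.Coprime (2 ^ 2) (Nat.card M) :=
        Nat.Coprime.pow_left _ ((Nat.Prime.coprime_iff_not_dvd Nat.prime_two).2 (hOmem M hMO).2.1)
      have h2 : Nat.Coprime 3 (Nat.card M) :=
        (Nat.Prime.coprime_iff_not_dvd (by norm_num)).2 (hOmem M hMO).1.1.2
      exact Nat.Coprime.mul_left h1 h2
    have hprod : 12 * ∏ b ∈ B, b ∣ n :=
      Nat.Coprime.mul_dvd_of_dvd_of_dvd (Nat.Coprime.prod_right fun b hb' => (hb b hb').2.2.2) h12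
        (Finset.prod_dvd_of_isRelPrime (fun b hb' b' hb'' hne =>
          Nat.coprime_iff_isRelPrime.1 (hcoprime b (hBO b hb') b' (hBO b' hb'') hne)) fun b hb' => (hb b hb').2.2.1)
    have hn0 : 0 < n := Nat.card_pos
    have h := sq_sum_le (G := n) (le_trans (by norm_num) (Nat.le_of_dvd hn0 h12)) B (fun b hb' => (hb b hb').1)
      (fun b hb' => (hb b hb').2.1) (Nat.le_of_dvd hn0 hprod)
    have h' := Nat.pow_le_pow_left (hgroup O3 (Finset.filter_subset _ _)) 2
    rw [← hB, mul_pow] at h'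
    omega
  have hC144 : C < 144 := by
    refine C_lt hd F.upper F.lower F.order F.inv_count F.fac_count hCpos (evenMax_two C)
      (fun h => evenMax_four h) h6 h3 ?_
    exact (hsum.trans (Nat.add_le_add hEle hsplit.le)).trans (le_of_eq (Nat.add_assoc _ _ _).symm)
  refine order_eq h4i hC3 hC144 hd F.mod_three F.upper F.lower F.norm F.order hCn F.dvd F.dvd' h12
    (nine_not_dvd hx hC) F.squares F.inv_count F.fac_count ?_
  refine hsum.trans (Nat.add_le_add hEle ((hgroup O (Finset.Subset.refl O)).trans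
    (Nat.mul_le_mul_left 2 (Finset.sum_le_sum_of_subset ?_))))
  intro b hb
  obtain ⟨M, hM, rfl⟩ := Finset.mem_image.1 hb
  obtain ⟨hMm, hModd, hM1⟩ := hOmem M hM
  have hbdvd : Nat.card M ∣ n := card_subgroup_dvd_card M
  have hor : 3 * Nat.card M ^ 2 ≤ n ∨ Nat.card M ≤ Nat.gcd (Nat.card M) C ^ 2 := by
    by_cases hsM : cj s M = M
    · obtain ⟨c, hc1, hc2, hc3⟩ := hfix M hM hsM
      refine Or.inr (hc3.trans ?_)
      rw [← pow_two]
      exact Nat.pow_le_pow_left (Nat.le_of_dvd (Nat.gcd_pos_of_pos_left _ Nat.card_pos) (Nat.dvd_gcd hc1 hc2)) 2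
    · exact Or.inl (hpair M hM hsM)
  refine Finset.mem_filter.2 ⟨Finset.mem_range.2 ?_, ?_, hMm.1.mod_three hx hC,
    Nat.mod_eq_zero_of_dvd hbdvd, ?_, hor⟩
  · have hg4 : 4 * Nat.gcd (Nat.card M) C ≤ C := by
      refine Nat.le_of_dvd hCpos (Nat.Coprime.mul_dvd_of_dvd_of_dvd ?_ h4i (Nat.gcd_dvd_right _ _))
      exact Nat.Coprime.pow_left 2 ((Nat.Prime.coprime_iff_not_dvd Nat.prime_two).2
        fun h => hModd (h.trans (Nat.gcd_dvd_left _ _)))
    rcases hor with h | h
    · have hb : 2 * Nat.card M ≤ 3 * C := by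
        have h1 := F.order
        have hu := F.upper
        have hD2 : (2 : ℤ) * ((d : ℤ) + 2) ≤ 3 * ((d : ℤ) - a) := by omega
        have e2 : (2 * ((d : ℤ) + 2)) ^ 2 ≤ (3 * ((d : ℤ) - a)) ^ 2 := pow_le_pow_left₀ (by positivity) hD2 2
        have hG : (4 : ℤ) * n ≤ 27 * (C : ℤ) ^ 2 := by
          refine le_of_mul_le_mul_right ?_ (pow_pos hD 2)
          have e3 := mul_le_mul_of_nonneg_left e2 (by positivity : (0 : ℤ) ≤ (C : ℤ) ^ 2)
          rw [mul_assoc, hn, h1, ← hCdef]
          nlinarith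
        have h' : ((2 : ℤ) * Nat.card M) ^ 2 ≤ (3 * (C : ℤ)) ^ 2 := by
          have hz : (3 : ℤ) * (Nat.card M : ℤ) ^ 2 ≤ n := by exact_mod_cast h
          nlinarith
        exact_mod_cast (pow_le_pow_iff_left₀ (by positivity) (by positivity) two_ne_zero).1 h'
      omega
    · have h1 := Nat.pow_le_pow_left hg4 2
      rw [mul_pow] at h1
      have : Nat.card M ≤ C * C / 16 := by
        rw [Nat.le_div_iff_mul_le (by norm_num)]
        rw [pow_two C] at h1
        omega
      omega
  · omega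
  · by_contra hco
    obtain ⟨p, hp, hp1, hp2⟩ := Nat.Prime.not_coprime_iff_dvd.1 hco
    haveI := Fact.mk hp
    obtain ⟨R, hRM, -, -, -, hRc, -⟩ := part_sylow hx hC hloc (fun e => hModd (e ▸ hp1)) hMm hp1
    have h1 : p ^ (n.factorization p) ∣ Nat.card M := hRc ▸ card_dvd_of_le hRM
    have h2 : p ^ (n.factorization p + 1) ∣ n := by
      have h := Nat.mul_dvd_mul h1 hp2
      rwa [← pow_succ, Nat.mul_div_cancel' hbdvd] at h
    exact Nat.not_succ_le_self _ ((hp.pow_dvd_iff_le_factorization Nat.card_pos.ne').1 h2)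

end Cfsg.Agent.Lib.FTThree
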