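import Cfsg.Agent.Lib.FTThree.Basic
import Cfsg.Agent.Lib.CNGroup.Basic
import Cfsg.Agent.Lib.Transfer.Alperin
import Cfsg.Agent.Lib.FPF.FrobeniusKernel

/-!
# Subgroups of order prime to three invariant under a self-centralizing element of order three
-/

set_option autoImplicit false
set_option linter.unusedSectionVars false
set_option linter.style.haveILetI false

namespace Cfsg.Agent.Lib.FTThree

open Subgroup
open Cfsg.Agent.Lib.Char

variable {G : Type*} [Group G] [Finite G] {x : G}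

/-- An `x`-invariant subgroup of order prime to three. -/
def IsInv (x : G) (K : Subgroup G) : Prop :=
  x ∈ normalizer (K : Set G) ∧ ¬ 3 ∣ Nat.card K

/-- A maximal `x`-invariant subgroup of order prime to three. -/
def IsMaxInv (x : G) (M : Subgroup G) : Prop :=
  IsInv x M ∧ ∀ K : Subgroup G, IsInv x K → M ≤ K → K = M

/-- The local condition on proper subgroups. -/
def Loc (x : G) : Prop :=
  ∀ H : Subgroup G, H ≠ ⊤ → x ∈ H →
    (∃ S ≤ H, H ≤ normalizer (S : Set G) ∧ ¬ 3 ∣ Nat.card S ∧ Nat.card H ∣ 6 * Nat.card S ∧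
      ∀ K ≤ H, IsInv x K → K ≤ S) ∨
    (∀ D ≤ H, H ≤ normalizer (D : Set G) → ¬ 3 ∣ Nat.card D → IsPGroup 2 D)

theorem exists_isMaxInv {K : Subgroup G} (hK : IsInv x K) : ∃ M, IsMaxInv x M ∧ K ≤ M := by
  obtain ⟨M, hKM, hM⟩ := (Set.toFinite {L : Subgroup G | IsInv x L}).exists_le_maximal hK
  exact ⟨M, ⟨hM.1, fun L hL hML => le_antisymm (hM.2 hL hML) hML⟩, hKM⟩

/-- The subgroup hypothesis passes to subgroups containing `x`. -/
theorem sub_centralizer (hC : centralizer ({x} : Set G) = zpowers x) {H : Subgroup G} (hxH : x ∈ H) :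
    centralizer ({⟨x, hxH⟩} : Set H) = zpowers (⟨x, hxH⟩ : H) := by
  refine le_antisymm (fun y hy => ?_) (zpowers_le.2 (mem_centralizer_singleton_iff.2 rfl))
  have h : (y : G) ∈ zpowers x := by
    rw [← hC, mem_centralizer_singleton_iff]
    exact congrArg Subtype.val (mem_centralizer_singleton_iff.1 hy)
  obtain ⟨k, hk⟩ := mem_zpowers_iff.1 h
  exact mem_zpowers_iff.2 ⟨k, Subtype.ext (by simpa using hk)⟩

theorem not_mem_of_not_dvd (hx : orderOf x = 3) {K : Subgroup G} (hK : ¬ 3 ∣ Nat.card K) : x ∉ K :=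
  fun h => hK (hx ▸ K.orderOf_dvd_natCard h)

theorem not_dvd_of_not_mem (hx : orderOf x = 3) (hC : centralizer ({x} : Set G) = zpowers x)
    {K : Subgroup G} (hK : x ∈ normalizer (K : Set G)) (hxK : x ∉ K) : ¬ 3 ∣ Nat.card K := by
  haveI : Fact (Nat.Prime 3) := ⟨by norm_num⟩
  intro h
  have h1 := SC.card_dvd_iff_mem (p := 3) (x := (⟨x, hK⟩ : normalizer (K : Set G)))
    (by rw [orderOf_mk]; exact hx) (sub_centralizer hC hK) (K.subgroupOf (normalizer (K : Set G)))
  rw [Nat.card_congr (subgroupOfEquivOfLe le_normalizer).toEquiv] at h1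
  exact hxK (h1.1 h)

theorem IsInv.mod_three (hx : orderOf x = 3) (hC : centralizer ({x} : Set G) = zpowers x)
    {K : Subgroup G} (hK : IsInv x K) : Nat.card K % 3 = 1 := by
  haveI : Fact (Nat.Prime 3) := ⟨by norm_num⟩
  have e := Nat.card_congr (subgroupOfEquivOfLe (le_normalizer (H := K))).toEquiv
  have h1 := SC.card_mod_eq_one (p := 3) (x := (⟨x, hK.1⟩ : normalizer (K : Set G)))
    (by rw [orderOf_mk]; exact hx) (sub_centralizer hC hK.1) (K.subgroupOf (normalizer (K : Set G)))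
    (by rw [e]; exact hK.2)
  rwa [e] at h1

theorem IsInv.eq_one (hx : orderOf x = 3) (hC : centralizer ({x} : Set G) = zpowers x)
    {K : Subgroup G} (hK : IsInv x K) {y : G} (hy : y ∈ K) (h : x * y = y * x) : y = 1 := by
  have hy' : y ∈ zpowers x := hC ▸ mem_centralizer_singleton_iff.2 h.symm
  rcases (mem_zpowers_iff_three hx).1 hy' with e | e | e
  · exact e
  · exact absurd (e ▸ hy) (not_mem_of_not_dvd hx hK.2)
  · rw [e, inv_mem_iff] at hy; exact absurd hy (not_mem_of_not_dvd hx hK.2)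

/-- Thompson's theorem for invariant subgroups. -/
theorem IsInv.nilpotent (hx : orderOf x = 3) (hC : centralizer ({x} : Set G) = zpowers x)
    {K : Subgroup G} (hK : IsInv x K) : Group.IsNilpotent K := by
  haveI : Group.IsNilpotent (K.subgroupOf (normalizer (K : Set G))) :=
    FPF.isNilpotent_of_prime_element (h := (⟨x, hK.1⟩ : normalizer (K : Set G))) (by norm_num : Nat.Prime 3)
      (Subtype.ext (cube_eq_one hx)) fun y hy h =>
        Subtype.ext (hK.eq_one hx hC hy (congrArg Subtype.val h))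
  exact Group.nilpotent_of_mulEquiv (subgroupOfEquivOfLe le_normalizer)

theorem isInv_of_le (hx : orderOf x = 3) {K M : Subgroup G} (hM : IsInv x M) (hKM : K ≤ M)
    (hK : x ∈ normalizer (K : Set G)) : IsInv x K :=
  ⟨hK, fun h => hM.2 (h.trans (card_dvd_of_le hKM))⟩

/-- The Sylow subgroup of a nilpotent subgroup. -/
theorem exists_part {M : Subgroup G} (hM : Group.IsNilpotent M) (p : ℕ) [Fact p.Prime] :
    ∃ R ≤ M, IsPGroup p R ∧ (∀ Q ≤ M, IsPGroup p Q → Q ≤ R) ∧
      normalizer (M : Set G) ≤ normalizer (R : Set G) ∧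
      Nat.card R = p ^ (Nat.card M).factorization p := by
  obtain ⟨P⟩ : Nonempty (Sylow p M) := inferInstance
  have hPn := CNGroup.sylow_normal hM P
  have hmax : ∀ Q ≤ M, IsPGroup p Q → Q ≤ (P : Subgroup M).map M.subtype := by
    intro Q hQM hQ q hq
    obtain ⟨T, hT⟩ := (hQ.comap_subtype (K := M)).exists_le_sylow
    have : T = P := Sylow.ext (by
      obtain ⟨a, ha⟩ := MulAction.exists_smul_eq M P T
      rw [← ha, Sylow.smul_eq_of_normal])
    exact ⟨⟨q, hQM hq⟩, this ▸ hT hq, rfl⟩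
  refine ⟨_, map_subtype_le _, P.2.map M.subtype, hmax, fun g hg => ?_, ?_⟩
  · set R := (P : Subgroup M).map M.subtype
    have hle : R.map (MulAut.conj g).toMonoidHom ≤ R := by
      refine hmax _ ?_ ((P.2.map M.subtype).map _)
      rintro _ ⟨r, hr, rfl⟩
      exact (mem_normalizer_iff.1 hg r).1 (map_subtype_le _ hr)
    have heq : R.map (MulAut.conj g).toMonoidHom = R :=
      eq_of_le_of_card_ge hle
      (card_map_of_injective (K := R) (MulAut.conj g).injective).ge
    rw [mem_normalizer_iff]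
    intro z
    constructor
    · intro hz; rw [← heq]; exact ⟨z, hz, rfl⟩
    · intro hz
      rw [← heq] at hz
      obtain ⟨w, hw, hwz⟩ := hz
      exact (MulAut.conj g).injective hwz ▸ hw
  · rw [card_map_of_injective M.subtype_injective]
    exact P.card_eq_multiplicity

/-- A `p`-element of `H` lies in a normal subgroup of index dividing six. -/
theorem mem_of_dvd_six {H S : Subgroup G} (hSH : S ≤ H) (hHS : H ≤ normalizer (S : Set G))
    (hd : Nat.card H ∣ 6 * Nat.card S) {y : G} (hy : y ∈ H) (hy6 : (orderOf y).Coprime 6) : y ∈ S := by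
  haveI : (S.subgroupOf H).Normal := (normal_subgroupOf_iff_le_normalizer hSH).2 hHS
  have hidx : (S.subgroupOf H).index ∣ 6 := by
    rw [← (S.subgroupOf H).card_mul_index, Nat.card_congr (subgroupOfEquivOfLe hSH).toEquiv,
      mul_comm 6] at hd
    exact Nat.dvd_of_mul_dvd_mul_left Nat.card_pos hd
  have h1 : (⟨y, hy⟩ : H) ^ (S.subgroupOf H).index ∈ S.subgroupOf H := pow_index_mem _ _
  obtain ⟨m, hm⟩ := exists_pow_eq_self_of_coprime (x := (⟨y, hy⟩ : H)) (n := (S.subgroupOf H).index)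
    (by rw [orderOf_mk]; exact (hy6.coprime_dvd_right hidx).symm)
  have h2 := pow_mem h1 m
  rw [hm] at h2
  exact h2

variable [IsSimpleGroup G]

theorem normalizer_ne_top (hx : orderOf x = 3) {P : Subgroup G} (hP : IsInv x P) (hne : P ≠ ⊥) :
    normalizer (P : Set G) ≠ ⊤ := by
  intro h
  rcases (normalizer_eq_top_iff.1 h).eq_bot_or_eq_top with e | e
  · exact hne e
  · exact not_mem_of_not_dvd hx hP.2 (e ▸ mem_top x)

theorem loc_normalizer (hx : orderOf x = 3) (hloc : Loc x) {p : ℕ} [hp : Fact p.Prime] (hp2 : p ≠ 2)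
    {P : Subgroup G} (hP : IsInv x P) (hPp : IsPGroup p P) (hne : P ≠ ⊥) :
    ∃ S, IsInv x S ∧ P ≤ S ∧ S ≤ normalizer (P : Set G) ∧ normalizer (P : Set G) ≤ normalizer (S : Set G) ∧
      Nat.card (normalizer (P : Set G)) ∣ 6 * Nat.card S ∧
      ∀ K ≤ normalizer (P : Set G), IsInv x K → K ≤ S := by
  rcases hloc _ (normalizer_ne_top hx hP hne) hP.1 with ⟨S, hSH, hHS, hS3, hd, hall⟩ | h
  · exact ⟨S, ⟨hHS hP.1, hS3⟩, hall P le_normalizer hP, hSH, hHS, hd, hall⟩
  · exfalso
    have h2 := h P le_normalizer le_rfl hP.2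
    obtain ⟨n, hn⟩ := h2.exists_card_eq
    obtain ⟨m, hm⟩ := hPp.exists_card_eq
    have hc : p ^ m = 2 ^ n := hm.symm.trans hn
    rcases Nat.eq_zero_or_pos m with rfl | hm0
    · exact hne (eq_bot_of_card_eq P (by rw [hm, pow_zero]))
    · exact hp2 ((Nat.prime_dvd_prime_iff_eq hp.out Nat.prime_two).1
        (hp.out.dvd_of_dvd_pow (hc ▸ dvd_pow_self p hm0.ne')))

/-- Uniqueness of maximal invariant subgroups above an invariant subgroup of odd prime power order. -/
theorem eq_of_le (hx : orderOf x = 3) (hC : centralizer ({x} : Set G) = zpowers x) (hloc : Loc x)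
    {p : ℕ} [hp : Fact p.Prime] (hp2 : p ≠ 2) {P M M' : Subgroup G} (hPp : IsPGroup p P) (hne : P ≠ ⊥)
    (hPn : x ∈ normalizer (P : Set G)) (hM : IsMaxInv x M) (hM' : IsMaxInv x M') (hPM : P ≤ M)
    (hPM' : P ≤ M') : M = M' := by
  induction hk : Nat.card G - Nat.card P using Nat.strong_induction_on generalizing P M M' with
  | _ k ih =>
    have hP : IsInv x P := isInv_of_le hx hM.1 hPM hPn
    obtain ⟨S, hS, hPS, hSN, hNS, hd, hall⟩ := loc_normalizer hx hloc hp2 hP hPp hne
    obtain ⟨N, hN, hSN'⟩ := exists_isMaxInv hS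
    suffices ∀ L, IsMaxInv x L → P ≤ L → L = N from (this M hM hPM).trans (this M' hM' hPM').symm
    intro L hL hPL
    obtain ⟨R, hRL, hRp, hRmax, hRn, -⟩ := exists_part (hL.1.nilpotent hx hC) p
    have hPR : P ≤ R := hRmax P hPL hPp
    rcases eq_or_lt_of_le hPR with rfl | hlt
    · exact (hL.2 N hN.1 ((hall L (le_normalizer.trans hRn) hL.1).trans hSN')).symm
    · have hlt' := Transfer.lt_inf_normalizer hRp hlt
      set P' := R ⊓ normalizer (P : Set G) with hP'
      have hxP' : x ∈ normalizer (P' : Set G) := by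
        rw [mem_normalizer_iff]
        intro z
        simp only [hP', mem_inf]
        exact and_congr (mem_normalizer_iff.1 (hRn hL.1.1) z)
          (mem_normalizer_iff.1 (le_normalizer hPn) z)
      have hP'i : IsInv x P' := isInv_of_le hx hL.1 (inf_le_left.trans hRL) hxP'
      have hP'N : P' ≤ N := (hall P' inf_le_right hP'i).trans hSN'
      have hcard := Transfer.card_lt_of_subgroup_lt hlt'
      have hle : Nat.card P' ≤ Nat.card G := Nat.card_le_card_of_injective _ P'.subtype_injective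
      exact ih (Nat.card G - Nat.card P') (by omega) (hRp.to_le inf_le_left)
        (fun h => hne (le_bot_iff.1 (h ▸ hlt'.le))) hxP' hL hN (inf_le_left.trans hRL) hP'N rfl

/-- For an odd prime, the Sylow subgroup of a maximal invariant subgroup is Sylow in the group. -/
theorem part_sylow (hx : orderOf x = 3) (hC : centralizer ({x} : Set G) = zpowers x) (hloc : Loc x)
    {p : ℕ} [hp : Fact p.Prime] (hp2 : p ≠ 2) {M : Subgroup G} (hM : IsMaxInv x M)
    (hdvd : p ∣ Nat.card M) :
    ∃ R ≤ M, IsPGroup p R ∧ R ≠ ⊥ ∧ x ∈ normalizer (R : Set G) ∧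
      Nat.card R = p ^ (Nat.card G).factorization p ∧ ∃ Q : Sylow p G, (Q : Subgroup G) = R := by
  obtain ⟨R, hRM, hRp, hRmax, hRn, hRc⟩ := exists_part (hM.1.nilpotent hx hC) p
  have hne : R ≠ ⊥ := by
    rintro rfl
    rw [card_bot] at hRc
    have := hp.out.factorization_pos_of_dvd Nat.card_pos.ne' hdvd
    have h2 := Nat.one_lt_pow this.ne' hp.out.one_lt
    omega
  have hxR := hRn hM.1.1
  have hR : IsInv x R := isInv_of_le hx hM.1 hRM hxR
  obtain ⟨S, hS, -, hSN, hNS, hd, hall⟩ := loc_normalizer hx hloc hp2 hR hRp hne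
  have hSM : S = M := hM.2 S hS (hall M (le_normalizer.trans hRn) hM.1)
  obtain ⟨Q, hQ⟩ := hRp.exists_le_sylow
  have hQR : (Q : Subgroup G) = R := by
    refine (eq_or_lt_of_le hQ).elim Eq.symm fun hlt => ?_
    exfalso
    have hlt' := Transfer.lt_inf_normalizer Q.2 hlt
    refine hlt'.not_ge (hRmax _ (fun y hy => hSM ▸ mem_of_dvd_six hSN hNS hd hy.2 ?_) (Q.2.to_le inf_le_left))
    obtain ⟨n, hn⟩ := Q.2 ⟨y, hy.1⟩
    have hy' : y ^ p ^ n = 1 := congrArg Subtype.val hn
    obtain ⟨j, -, hj⟩ := (Nat.dvd_prime_pow hp.out).1 (orderOf_dvd_of_pow_eq_one hy')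
    have hp3 : p ≠ 3 := by
      rintro rfl
      exact hM.1.2 hdvd
    rw [hj]
    exact Nat.Coprime.pow_left _ (hp.out.coprime_iff_not_dvd.2 fun h6 => by
      have := Nat.le_of_dvd (by norm_num) h6
      interval_cases p <;> first | omega | exact absurd hp.out (by norm_num))
  exact ⟨R, hRM, hRp, hne, hxR, by rw [← hQR]; exact Q.card_eq_multiplicity, Q, hQR⟩

end Cfsg.Agent.Lib.FTThree
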