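import Cfsg.Agent.Lib.FTThree.Bound
import Cfsg.Agent.Lib.Hall.CoprimeProduct
import Cfsg.Prelude.Def_Solvable

/-!
# Groups with a self-centralizing subgroup of order three
-/

set_option autoImplicit false
set_option linter.unusedSectionVars false
set_option linter.style.haveILetI false

namespace Cfsg.Agent.Lib.FTThree

open Subgroup
open Cfsg Cfsg.Agent.Lib Cfsg.Agent.Lib.Char
open scoped commutatorElement

universe u

/-- The shape of a group with a self-centralizing element of order three. -/
def Shape (G : Type u) [Group G] : Prop :=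
  ∃ (S : Subgroup G) (_ : S.Normal), ¬ 3 ∣ Nat.card S ∧
    ((Nat.card (G ⧸ S) = 3 ∨ Nat.card (G ⧸ S) = 6) ∨
      (IsPGroup 2 S ∧ IsSimpleGroup (G ⧸ S) ∧
        (Nat.card (G ⧸ S) = 60 ∨ (Nat.card (G ⧸ S) = 168 ∧ S = ⊥))))

variable {G : Type u} [Group G] [Finite G] {x : G}

/-- The shape of a subgroup gives the local condition there. -/
theorem loc_of_shape (hx : orderOf x = 3) (hC : centralizer ({x} : Set G) = zpowers x) {H : Subgroup G}
    (hxH : x ∈ H) (h : Shape H) :
    (∃ S ≤ H, H ≤ normalizer (S : Set G) ∧ ¬ 3 ∣ Nat.card S ∧ Nat.card H ∣ 6 * Nat.card S ∧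
      ∀ K ≤ H, IsInv x K → K ≤ S) ∨
    (∀ D ≤ H, H ≤ normalizer (D : Set G) → ¬ 3 ∣ Nat.card D → IsPGroup 2 D) := by
  haveI : Fact (Nat.Prime 3) := ⟨by norm_num⟩
  obtain ⟨S, hS, hS3, hcase⟩ := h
  have hxo : orderOf (⟨x, hxH⟩ : H) = 3 := by rw [orderOf_mk]; exact hx
  have hcard := Subgroup.card_eq_card_quotient_mul_card_subgroup S
  rcases hcase with h36 | ⟨hS2, hsimp, hord⟩
  · refine Or.inl ⟨S.map H.subtype, map_subtype_le _, ?_, ?_, ?_, fun K hKH hK => ?_⟩
    · intro g hg
      rw [mem_normalizer_iff]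
      intro z
      constructor
      · rintro ⟨w, hw, rfl⟩
        exact ⟨⟨g, hg⟩ * w * ⟨g, hg⟩⁻¹, hS.conj_mem _ hw _, by simp⟩
      · rintro ⟨w, hw, hwz⟩
        refine ⟨⟨g, hg⟩⁻¹ * w * ⟨g, hg⟩, by simpa using hS.conj_mem _ hw ⟨g, hg⟩⁻¹, ?_⟩
        simp only [coe_subtype, Subgroup.coe_mul, Subgroup.coe_inv] at hwz ⊢
        rw [hwz]; group
    · rwa [card_map_of_injective H.subtype_injective]
    · rw [card_map_of_injective H.subtype_injective, hcard]
      exact mul_dvd_mul_right (by rcases h36 with e | e <;> rw [e] <;> norm_num) _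
    · intro k hk
      refine ⟨⟨k, hKH hk⟩, ?_, rfl⟩
      set q := QuotientGroup.mk' S
      by_contra hkS
      set K' := (K.subgroupOf H).map q with hK'
      have hK'3 : ¬ 3 ∣ Nat.card K' := fun h => hK.2 (by
        refine h.trans ((card_map_dvd _ _).trans ?_)
        rw [Nat.card_congr (subgroupOfEquivOfLe hKH).toEquiv])
      have hd : Nat.card K' ∣ 6 :=
        (card_subgroup_dvd_card K').trans (by rcases h36 with e | e <;> rw [e] <;> norm_num)
      have hK'2 : Nat.card K' = 2 := by
        have hne : Nat.card K' ≠ 1 := fun h => hkS ((QuotientGroup.eq_one_iff _).1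
          ((eq_bot_iff_forall _).1 (eq_bot_of_card_eq _ h) _ ⟨⟨k, hKH hk⟩, hk, rfl⟩))
        have hle := Nat.le_of_dvd (by norm_num) hd
        have hpos : 0 < Nat.card K' := Nat.card_pos
        interval_cases hc : Nat.card K' <;> omega
      obtain ⟨y, hy1, huniq⟩ : ∃ y : K', y ≠ 1 ∧ ∀ z : K', z ≠ 1 → z = y := by
        obtain ⟨y, hy⟩ := (Nat.card_eq_two_iff' (1 : K')).1 hK'2
        exact ⟨y, hy.1, hy.2⟩
      obtain ⟨hqx, hqC⟩ := SC.centralizer_quotient hxo (sub_centralizer hC hxH) S hS3
      obtain ⟨⟨w, hw⟩, hwK, hwy⟩ := y.2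
      have hconj : q ⟨x, hxH⟩ * y * (q ⟨x, hxH⟩)⁻¹ ∈ K' :=
        ⟨⟨x, hxH⟩ * ⟨w, hw⟩ * ⟨x, hxH⟩⁻¹, (mem_normalizer_iff.1 hK.1 w).1 hwK, by
          rw [map_mul, map_mul, map_inv, hwy]⟩
      have h2 := huniq ⟨_, hconj⟩ fun h => hy1 (Subtype.ext (conj_eq_one_iff.1 (congrArg Subtype.val h)))
      have h3 : (y : H ⧸ S) ∈ zpowers (q ⟨x, hxH⟩) := by
        show (y : H ⧸ S) ∈ zpowers (QuotientGroup.mk (⟨x, hxH⟩ : H) : H ⧸ S)
        rw [← hqC, mem_centralizer_singleton_iff]
        exact (mul_inv_eq_iff_eq_mul.1 (congrArg Subtype.val h2)).symm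
      have h4 := orderOf_dvd_natCard (zpowers (q ⟨x, hxH⟩)) h3
      have h5 : orderOf (y : H ⧸ S) ∣ 2 := hK'2 ▸ K'.orderOf_dvd_natCard y.2
      rw [Nat.card_zpowers, show orderOf (q ⟨x, hxH⟩) = 3 from hqx] at h4
      refine hy1 (Subtype.ext (orderOf_eq_one_iff.1 ?_))
      exact Nat.dvd_one.1 (Nat.dvd_gcd h5 h4)
  · refine Or.inr fun D hDH hHD hD3 => ?_
    haveI := hsimp
    set q := QuotientGroup.mk' S
    haveI : (D.subgroupOf H).Normal := (normal_subgroupOf_iff_le_normalizer hDH).2 hHD
    haveI : ((D.subgroupOf H).map q).Normal := Subgroup.Normal.map inferInstance q (QuotientGroup.mk'_surjective S)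
    rcases ‹((D.subgroupOf H).map q).Normal›.eq_bot_or_eq_top with e | e
    · have hle : D.subgroupOf H ≤ S := by
        rw [Subgroup.map_eq_bot_iff, QuotientGroup.ker_mk'] at e
        exact e
      exact (hS2.to_le hle).of_equiv (subgroupOfEquivOfLe hDH)
    · exfalso
      apply hD3
      have h3 : 3 ∣ Nat.card ((D.subgroupOf H).map q) := by
        rw [e, card_top]
        rcases hord with h | ⟨h, -⟩ <;> rw [h] <;> norm_num
      refine h3.trans ((card_map_dvd _ _).trans ?_)
      rw [Nat.card_congr (subgroupOfEquivOfLe hDH).toEquiv]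

/-- No element inverts `x`: then `|G : G'| = 3`. -/
theorem commutator_index_three (hx : orderOf x = 3) (hC : centralizer ({x} : Set G) = zpowers x)
    (hno : ∀ g : G, g * x * g⁻¹ ≠ x⁻¹) :
    ¬ 3 ∣ Nat.card (commutator G) ∧ (commutator G).index = 3 := by
  haveI : Fact (Nat.Prime 3) := ⟨by norm_num⟩
  have hN : normalizer (zpowers x : Set G) ≤ zpowers x := by
    intro g hg
    rcases (mem_zpowers_iff_three hx).1 ((mem_normalizer_iff.1 hg x).1 (mem_zpowers x)) with e | e | e
    · rw [conj_eq_one_iff] at e; rw [e, orderOf_one] at hx; omega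
    · exact hC ▸ mem_centralizer_singleton_iff.2 (mul_inv_eq_iff_eq_mul.1 e)
    · exact absurd e (hno g)
  have hcc := SC.card_classes hx hC
  have e : Nat.card (normalizer (zpowers x : Set G)) = 3 := by
    rw [le_antisymm hN le_normalizer, Nat.card_zpowers, hx]
  rw [e] at hcc
  have ht : Nat.card {C : ConjClasses G // ∃ g ∈ C.carrier, orderOf g = 3} = 2 := by omega
  have h3 := (SC.t_eq_iff hx hC ht).1 rfl
  refine ⟨h3, ?_⟩
  -- the image of `x` generates the abelianization
  obtain ⟨hord, hcent⟩ := SC.centralizer_quotient hx hC (commutator G) h3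
  rw [Subgroup.index_eq_card]
  have htop : zpowers (QuotientGroup.mk x : G ⧸ commutator G) = ⊤ := by
    rw [← hcent, eq_top_iff]
    intro g _
    obtain ⟨g, rfl⟩ := QuotientGroup.mk_surjective g
    rw [mem_centralizer_singleton_iff]
    exact mul_comm (Abelianization.of g) (Abelianization.of x)
  rw [← Nat.card_congr Subgroup.topEquiv.toEquiv, ← htop, Nat.card_zpowers, hord]

/-- A normal subgroup whose centralizer is not inside a normal `3'`-subgroup with simple quotient. -/
theorem commute_of_centralizer (hx : orderOf x = 3) (hC : centralizer ({x} : Set G) = zpowers x)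
    {S : Subgroup G} [S.Normal] [IsSimpleGroup (G ⧸ S)] (hmax : ∀ L : Subgroup G, L.Normal → ¬ 3 ∣ Nat.card L → L ≤ S)
    {T : Set G} (hT : ∀ g : G, ∀ t ∈ T, g * t * g⁻¹ ∈ T) {k : G} (hkS : k ∉ S)
    (hk : ∀ t ∈ T, t * k = k * t) : ∀ t ∈ T, t * x = x * t := by
  haveI : Fact (Nat.Prime 3) := ⟨by norm_num⟩
  have hn : (centralizer T).Normal := ⟨fun c hc g => by
    rw [mem_centralizer_iff] at hc ⊢
    intro t ht
    have h := hc _ (hT g⁻¹ t ht)
    calc t * (g * c * g⁻¹) = g * (g⁻¹ * t * g⁻¹⁻¹ * c) * g⁻¹ := by group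
      _ = g * (c * (g⁻¹ * t * g⁻¹⁻¹)) * g⁻¹ := by rw [h]
      _ = g * c * g⁻¹ * t := by group⟩
  by_cases h3 : 3 ∣ Nat.card (centralizer T)
  · exact fun t ht => mem_centralizer_iff.1 ((SC.card_dvd_iff_mem hx hC (centralizer T)).1 h3) t ht
  · exact absurd (hmax _ hn h3 (mem_centralizer_iff.2 hk)) hkS

theorem shape_aux : ∀ (n : ℕ) (G : Type u) [Group G] [Finite G] (x : G), orderOf x = 3 →
    centralizer ({x} : Set G) = zpowers x → Nat.card G ≤ n → Shape G := by
  intro n
  induction n with
  | zero => intro G _ _ _ _ _ h; have := Nat.card_pos (α := G); omega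
  | succ n ih =>
    intro G _ _ x hx hC hn
    classical
    haveI : Fact (Nat.Prime 3) := ⟨by norm_num⟩
    by_cases hinv : ∀ g : G, g * x * g⁻¹ ≠ x⁻¹
    · obtain ⟨h3, hi⟩ := commutator_index_three hx hC hinv
      exact ⟨commutator G, inferInstance, h3, Or.inl (Or.inl (by rw [← Subgroup.index_eq_card, hi]))⟩
    push Not at hinv
    obtain ⟨g0, hg0⟩ := hinv
    -- an involution inverting `x`
    haveI : Fact (Nat.Prime 2) := ⟨Nat.prime_two⟩
    have hg0N : g0 ∈ normalizer (zpowers x : Set G) :=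
      (mem_normalizer_iff_three hx hC hg0).2 (Or.inr (by rw [inv_mul_cancel]; exact one_mem _))
    have hg0X : g0 ∉ zpowers x := fun h => by
      have h1 : g0 * x * g0⁻¹ = x := by
        rw [← hC, mem_centralizer_singleton_iff] at h
        rw [h, mul_inv_cancel_right]
      rw [hg0] at h1
      have h2 := inv_eq_sq hx
      rw [h1] at h2
      rw [left_eq_mul.1 h2, orderOf_one] at hx
      omega
    have hN6 : Nat.card (normalizer (zpowers x : Set G)) = 6 := by
      have hcc := SC.card_classes hx hC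
      obtain ⟨e, he⟩ := SC.card_normalizer (p := 3) hx
      rw [he] at hcc ⊢
      have hd : e ∣ 2 := Dvd.intro_left _
        (Nat.eq_of_mul_eq_mul_left (by norm_num : 0 < 3) (by rw [mul_left_comm]; exact hcc))
      rcases (Nat.dvd_prime Nat.prime_two).1 hd with rfl | rfl
      · exfalso
        refine hg0X (?_ : g0 ∈ zpowers x)
        rw [eq_of_le_of_card_ge (le_normalizer (H := zpowers x)) (by rw [he, Nat.card_zpowers, hx])]
        exact hg0N
      · rfl
    obtain ⟨⟨s, hsN⟩, hs2⟩ := exists_prime_orderOf_dvd_card' (G := normalizer (zpowers x : Set G)) 2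
      (by rw [hN6]; norm_num)
    rw [orderOf_mk] at hs2
    have hs : s * x * s⁻¹ = x⁻¹ := by
      rcases (mem_normalizer_iff_three hx hC hg0).1 hsN with h | h
      · have := orderOf_dvd_natCard (zpowers x) h
        rw [hs2, Nat.card_zpowers, hx] at this
        omega
      · rw [show s = g0 * (g0⁻¹ * s) by group]
        exact inverts_mul hg0 h
    have h3G' : 3 ∣ Nat.card (commutator G) := by
      refine (SC.card_dvd_iff_mem hx hC _).2 ?_
      have hmem : ⁅s, x⁆ ∈ commutator G := commutator_mem_commutator (mem_top _) (mem_top _)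
      rw [commutatorElement_def, hs, ← mul_inv_rev, ← inv_eq_sq hx, inv_inv] at hmem
      exact hmem
    have hxG' := (SC.card_dvd_iff_mem hx hC _).1 h3G'
    by_cases hperf : commutator G = ⊤
    swap
    · have hi : (commutator G).index = 2 := by
        have h := SC.index_commutator_dvd hx hC h3G'
        rw [hN6] at h
        have h2 : (commutator G).index ∣ 2 := Nat.dvd_of_mul_dvd_mul_left (by norm_num : 0 < 3) (by simpa using h)
        rcases (Nat.dvd_prime Nat.prime_two).1 h2 with e | e
        · exact absurd (index_eq_one.1 e) hperf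
        · exact e
      have hno : ∀ g : commutator G, g * ⟨x, hxG'⟩ * g⁻¹ ≠ (⟨x, hxG'⟩ : commutator G)⁻¹ := by
        rintro ⟨g, hg⟩ h
        have hgx : g * x * g⁻¹ = x⁻¹ := congrArg Subtype.val h
        apply hperf
        rw [eq_top_iff, ← SC.sup_normalizer_eq_top hx hC (commutator G) hxG', sup_le_iff]
        refine ⟨fun y hy => ?_, le_rfl⟩
        rcases (mem_normalizer_iff_three hx hC hgx).1 hy with hy | hy
        · exact zpowers_le.2 hxG' hy
        · rw [show y = g * (g⁻¹ * y) by group]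
          exact mul_mem hg (zpowers_le.2 hxG' hy)
      obtain ⟨h3, hi3⟩ := commutator_index_three (x := (⟨x, hxG'⟩ : commutator G))
        (by rw [orderOf_mk]; exact hx) (sub_centralizer hC hxG') hno
      haveI : ((commutator (commutator G)).map (commutator G).subtype).Normal :=
        ConjAct.normal_of_characteristic_of_normal
      refine ⟨_, this, by rwa [card_map_of_injective (commutator G).subtype_injective], Or.inl (Or.inr ?_)⟩
      rw [← Subgroup.index_eq_card, index_map_subtype, hi, hi3]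
    -- the perfect case
    set S := pPrimeCore 3 G with hSdef
    have hS3 : ¬ 3 ∣ Nat.card S := Hall.not_dvd_card_pPrimeCore (by norm_num)
    have hmax : ∀ L : Subgroup G, L.Normal → ¬ 3 ∣ Nat.card L → L ≤ S := fun L hL h3 =>
      Hall.le_pPrimeCore (Nat.Coprime.symm ((Nat.Prime.coprime_iff_not_dvd (by norm_num)).2 h3))
    have hxS : x ∉ S := fun h => hS3 ((SC.card_dvd_iff_mem hx hC S).2 h)
    set q := QuotientGroup.mk' S with hq
    obtain ⟨hqx, hqC⟩ := SC.centralizer_quotient hx hC S hS3
    haveI : Nontrivial (G ⧸ S) := ⟨q x, 1, fun h => hxS ((QuotientGroup.eq_one_iff x).1 h)⟩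
    haveI hsimp : IsSimpleGroup (G ⧸ S) := by
      refine ⟨fun L hL => ?_⟩
      by_cases h3 : 3 ∣ Nat.card (L.comap q)
      · refine Or.inr ?_
        have hle := SC.commutator_le_of_dvd hx hC (L.comap q) h3
        rw [hperf, top_le_iff] at hle
        rw [← map_comap_eq_self_of_surjective (QuotientGroup.mk'_surjective S) L, hle,
          map_top_of_surjective _ (QuotientGroup.mk'_surjective S)]
      · refine Or.inl ?_
        rw [← map_comap_eq_self_of_surjective (QuotientGroup.mk'_surjective S) L, Subgroup.map_eq_bot_iff,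
          QuotientGroup.ker_mk']
        exact hmax _ inferInstance h3
    have hnc : ¬ IsMulCommutative (G ⧸ S) := by
      intro h
      apply hxS
      have hle : commutator G ≤ S := by
        rw [_root_.commutator_def, commutator_le]
        intro a _ b _
        rw [← QuotientGroup.eq_one_iff, show ((⁅a, b⁆ : G) : G ⧸ S) = ⁅q a, q b⁆ from map_commutatorElement q a b,
          commutatorElement_eq_one_iff_mul_comm]
        exact h.is_comm.comm _ _
      exact hle hxG'
    have hsq : q s * q x * (q s)⁻¹ = (q x)⁻¹ := by rw [← map_inv, ← map_mul, ← map_mul, hs, map_inv]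
    have hsS : orderOf (q s) = 2 := by
      have hd : orderOf (q s) ∣ 2 := hs2 ▸ orderOf_map_dvd q s
      rcases (Nat.dvd_prime Nat.prime_two).1 hd with e | e
      · exfalso
        have e1 : q s = 1 := orderOf_eq_one_iff.1 e
        rw [e1, one_mul, inv_one, mul_one] at hsq
        have h2 : orderOf (q x) ∣ 2 := orderOf_dvd_of_pow_eq_one (by
          rw [pow_two]; nth_rw 1 [hsq]; exact inv_mul_cancel _)
        rw [show orderOf (q x) = 3 from hqx] at h2
        omega
      · exact e
    have hcardle : Nat.card (G ⧸ S) ≤ Nat.card G :=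
      Nat.card_le_card_of_surjective _ (QuotientGroup.mk'_surjective S)
    have hloc : Loc (q x) := fun H hH hxH => loc_of_shape hqx hqC hxH
      (ih H ⟨q x, hxH⟩ (by rw [orderOf_mk]; exact hqx) (sub_centralizer hqC hxH) (by
        have hlt : Nat.card H < Nat.card (G ⧸ S) :=
          lt_of_le_of_ne (Nat.card_le_card_of_injective _ H.subtype_injective) fun e => hH (eq_top_of_card_eq H e)
        omega))
    obtain ⟨hord, V, hV, hV2⟩ := order_of_simple hnc hqx hqC hsq hsS hloc
    -- invariant preimages are nilpotent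
    have hpre : ∀ W : Subgroup (G ⧸ S), IsInv (q x) W → Group.IsNilpotent (W.comap q) := fun W hW => by
      refine IsInv.nilpotent hx hC (?_ : IsInv x (W.comap q))
      have hn : x ∈ normalizer ((W.comap q : Subgroup G) : Set G) := by
        rw [mem_normalizer_iff]
        intro z
        rw [mem_comap, mem_comap, map_mul, map_mul, map_inv]
        exact mem_normalizer_iff.1 hW.1 (q z)
      exact ⟨hn, not_dvd_of_not_mem hx hC hn fun h => not_mem_of_not_dvd hqx hW.2 h⟩
    -- an element of prime power order lying over a given one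
    have hlift : ∀ {p : ℕ}, p.Prime → ∀ w : G ⧸ S, orderOf w = p → ∃ k, q k ∈ zpowers w ∧ k ∉ S ∧ ∃ j, orderOf k = p ^ j := by
      intro p hp w hw
      obtain ⟨k0, rfl⟩ := QuotientGroup.mk_surjective w
      obtain ⟨j, m, hm, hjm⟩ := Nat.exists_eq_pow_mul_and_not_dvd (orderOf_pos k0).ne' p hp.ne_one
      refine ⟨k0 ^ m, ?_, fun h => ?_, j, ?_⟩
      · rw [map_pow]; exact pow_mem (mem_zpowers _) m
      · have : (QuotientGroup.mk k0 : G ⧸ S) ^ m = 1 := by
          rw [← QuotientGroup.mk_pow]; exact (QuotientGroup.eq_one_iff _).2 h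
        exact hm (hw ▸ orderOf_dvd_of_pow_eq_one this)
      · have hm0 : m ≠ 0 := fun e => hm (e ▸ dvd_zero p)
        rw [orderOf_pow' _ hm0, hjm, Nat.gcd_eq_right (Dvd.intro_left _ rfl),
          Nat.mul_div_cancel _ (Nat.pos_of_ne_zero hm0)]
    have hcomm : ∀ (T : Set G), T ⊆ S → (∀ g : G, ∀ t ∈ T, g * t * g⁻¹ ∈ T) → ∀ k, k ∉ S →
        (∀ t ∈ T, t * k = k * t) → ∀ t ∈ T, t = 1 := fun T hTS hT k hkS hk t ht =>
      IsInv.eq_one hx hC (K := S) ⟨by rw [normalizer_eq_top_iff.2 inferInstance]; exact mem_top x, hS3⟩ (hTS ht)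
        (commute_of_centralizer hx hC hmax hT hkS hk t ht).symm
    have hS2 : IsPGroup 2 S := by
      obtain ⟨⟨w, hwV⟩, hw⟩ := exists_prime_orderOf_dvd_card' (G := V) 2 hV2
      rw [orderOf_mk] at hw
      obtain ⟨k, hkw, hkS, j, hk⟩ := hlift Nat.prime_two w hw
      set T : Set G := {t | t ∈ S ∧ Odd (orderOf t)}
      have hT1 := hcomm T (fun t ht => ht.1) (fun g t ht => ⟨(inferInstance : S.Normal).conj_mem t ht.1 g, by
        have := orderOf_injective (MulAut.conj g).toMonoidHom (MulAut.conj g).injective t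
        simp only [MulEquiv.coe_toMonoidHom, MulAut.conj_apply] at this
        rw [this]; exact ht.2⟩) k hkS fun t ht => Hall.CoprimeProduct.Data.commute_of_coprime (hpre V hV)
          (show q t ∈ V by rw [show q t = 1 from (QuotientGroup.eq_one_iff t).2 ht.1]; exact one_mem V)
          (zpowers_le.2 hwV hkw)
          (by rw [hk]; exact Nat.Coprime.pow_right _ (Nat.coprime_two_right.2 ht.2))
      intro y
      obtain ⟨j', m, hm, hjm⟩ := Nat.exists_eq_pow_mul_and_not_dvd (orderOf_pos (y : G)).ne' 2 (by norm_num)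
      have hm0 : m ≠ 0 := fun e => hm (e ▸ dvd_zero 2)
      have hy1 : (y : G) ^ 2 ^ j' = 1 := hT1 _ ⟨pow_mem y.2 _, by
        rw [orderOf_pow' _ (pow_ne_zero _ two_ne_zero), hjm, Nat.gcd_eq_right (Dvd.intro _ rfl),
          Nat.mul_div_cancel_left _ (pow_pos (by norm_num) _)]
        exact Nat.odd_iff.2 (by omega)⟩
      exact ⟨j', Subtype.ext (by simpa using hy1)⟩
    rcases hord with h60 | h168
    · exact ⟨S, inferInstance, hS3, Or.inr ⟨hS2, hsimp, Or.inl h60⟩⟩
    refine ⟨S, inferInstance, hS3, Or.inr ⟨hS2, hsimp, Or.inr ⟨h168, ?_⟩⟩⟩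
    haveI : Fact (Nat.Prime 7) := ⟨by norm_num⟩
    obtain ⟨P⟩ : Nonempty (Sylow 7 (G ⧸ S)) := inferInstance
    have hP7 : Nat.card (P : Subgroup (G ⧸ S)) = 7 := by
      rw [P.card_eq_multiplicity, h168, show (168 : ℕ) = 7 * 24 by norm_num,
        Nat.factorization_mul (by norm_num) (by norm_num), Finsupp.add_apply,
        Nat.Prime.factorization_self (by norm_num), Nat.factorization_eq_zero_of_not_dvd (by norm_num)]
      norm_num
    have hN21 : Nat.card (normalizer (P : Set (G ⧸ S))) = 21 := by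
      have hidx := P.card_eq_index_normalizer
      have hmod := card_sylow_modEq_one 7 (G ⧸ S)
      have hmul := (normalizer (P : Set (G ⧸ S))).card_mul_index
      have hdvd : (normalizer (P : Set (G ⧸ S))).index ∣ 24 := by
        obtain ⟨c, hc⟩ := card_dvd_of_le (le_normalizer (H := (P : Subgroup (G ⧸ S))))
        rw [hP7] at hc
        rw [show (normalizer ((P : Subgroup (G ⧸ S)) : Set (G ⧸ S))) = normalizer (P : Set (G ⧸ S)) from rfl] at hc
        rw [h168, hc] at hmul
        exact Dvd.intro_left c (by linarith)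
      rw [hidx] at hmod
      have hne : (normalizer (P : Set (G ⧸ S))).index ≠ 1 := by
        intro h1
        rcases (normalizer_eq_top_iff.1 (index_eq_one.1 h1)).eq_bot_or_eq_top with e | e
        · rw [e, card_bot] at hP7; omega
        · rw [e, card_top, h168] at hP7; omega
      have hle := Nat.le_of_dvd (by norm_num) hdvd
      rw [h168] at hmul
      unfold Nat.ModEq at hmod
      generalize (normalizer (P : Set (G ⧸ S))).index = i at hmod hdvd hne hle hmul
      interval_cases i <;> norm_num at * <;> omega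
    obtain ⟨⟨y, hyN⟩, hy⟩ := exists_prime_orderOf_dvd_card' (G := normalizer (P : Set (G ⧸ S))) 3
      (by rw [hN21]; norm_num)
    rw [orderOf_mk] at hy
    obtain ⟨c, hc⟩ := isConj_iff.1 (isConj_of_orderOf_three hqx hqC hsq hy)
    set W := cj c (P : Subgroup (G ⧸ S)) with hW
    have hWi : IsInv (q x) W := ⟨by rw [show q x = c * y * c⁻¹ from hc.symm]; exact mem_normalizer_cj hyN, by rw [card_cj, hP7]; norm_num⟩
    obtain ⟨⟨w, hwW⟩, hw⟩ := exists_prime_orderOf_dvd_card' (G := W) 7 (by rw [card_cj, hP7])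
    rw [orderOf_mk] at hw
    obtain ⟨k, hkw, hkS, j, hk⟩ := hlift (by norm_num) w hw
    have hT1 := hcomm (S : Set G) (Set.Subset.refl _) (fun g t ht => (inferInstance : S.Normal).conj_mem t ht g)
      k hkS fun t ht => Hall.CoprimeProduct.Data.commute_of_coprime (hpre W hWi)
        (show q t ∈ W by rw [show q t = 1 from (QuotientGroup.eq_one_iff t).2 ht]; exact one_mem W)
        (zpowers_le.2 hwW hkw)
        (by
          obtain ⟨i, hi⟩ := hS2 ⟨t, ht⟩
          obtain ⟨i', -, hi'⟩ := (Nat.dvd_prime_pow Nat.prime_two).1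
            (orderOf_dvd_of_pow_eq_one (congrArg Subtype.val hi : t ^ 2 ^ i = 1))
          rw [hk, hi']
          exact Nat.Coprime.pow _ _ (by norm_num))
    exact (eq_bot_iff_forall _).2 hT1

/-- The Feit–Thompson structure theorem. -/
theorem shape (hx : orderOf x = 3) (hC : centralizer ({x} : Set G) = zpowers x) : Shape G :=
  shape_aux _ G x hx hC le_rfl

end Cfsg.Agent.Lib.FTThree
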